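import Cfsg.Agent.Schur.PrimeCert

/-!
Data for the Schur multiplier of `McL`: Certs.
-/

set_option autoImplicit false
set_option maxRecDepth 100000

namespace CfsgLib.McLCover

/-- Words for the elements of the certificate at 2. -/
def twoElts : List (List Nat) := [
  [0, 1, 4, 3, 4, 0, 1, 2, 0, 1, 3, 4, 1, 4],
  [3, 4, 0, 1, 2, 0, 1, 3, 4, 0, 1, 2, 0, 1],
  [3, 4, 0, 3, 1, 0, 1, 3],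
  [1, 2, 0, 1, 3, 4, 0, 1, 2, 0, 1],
  [0, 1, 4, 0, 1, 4],
  [5, 2, 3, 2, 6, 3, 2, 4, 1, 3, 5, 1, 5, 2, 3, 2, 6, 3, 2, 4, 1, 3, 5, 1, 5, 2, 3, 2, 6, 3, 2, 4, 1, 3, 5, 1],
  [2, 3, 1, 0, 1, 3, 3, 4, 0, 3, 1, 0, 1, 3, 2],
  [1, 4, 2, 1, 3],
  [3, 5, 4, 1, 3, 1, 5, 4, 4, 5, 0, 1, 3, 4, 2, 1, 4, 4, 5],
  [1, 3, 1],
  [3, 3, 2],
  [4, 1, 1, 1, 6, 1, 4]]

/-- The elements of the Sylow subgroup, in increasing order of images. -/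
def twoWords : List (List Nat) := [
  [6, 5, 0],
  [5],
  [6, 5, 3, 1],
  [5, 3, 1, 0],
  [6, 5, 3],
  [5, 3, 0],
  [5, 1],
  [6, 5, 1, 0],
  [5, 4, 0],
  [6, 5, 4, 0],
  [6, 5, 4, 3, 1],
  [5, 4, 3, 1],
  [6, 5, 1],
  [5, 1, 0],
  [6, 5, 3, 0],
  [5, 3],
  [5, 4, 3, 2, 1],
  [5, 4, 2],
  [6, 5, 4, 2, 1],
  [6, 5, 4, 3, 2],
  [6, 5, 2, 0],
  [5, 3, 2],
  [6, 5, 3, 2, 1, 0],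
  [5, 2, 1],
  [5, 4, 3, 2],
  [6, 5, 4, 2],
  [5, 4, 2, 1],
  [6, 5, 4, 3, 2, 1],
  [6, 5, 4, 3, 2, 1, 0],
  [6, 5, 4, 2, 0],
  [5, 4, 2, 1, 0],
  [5, 4, 3, 2, 0],
  [6, 5, 4, 1],
  [5, 4, 3, 0],
  [6, 5, 4, 3, 0],
  [5, 4, 1],
  [5, 3, 2, 0],
  [6, 5, 3, 2, 1],
  [5, 2, 1, 0],
  [6, 5, 2],
  [],
  [3, 1, 0],
  [6, 1, 0],
  [6, 3],
  [4, 0],
  [6, 4],
  [6, 4, 3, 1, 0],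
  [4, 3, 1],
  [6, 3, 1],
  [1],
  [6, 0],
  [3, 0],
  [6],
  [1, 0],
  [3],
  [6, 3, 1, 0],
  [6, 5, 2, 1, 0],
  [5, 2],
  [5, 3, 2, 1],
  [6, 5, 3, 2, 0],
  [5, 4, 1, 0],
  [6, 5, 4, 3],
  [5, 4, 3],
  [6, 5, 4, 1, 0],
  [6, 5, 4, 3, 2, 0],
  [6, 5, 4, 2, 1, 0],
  [5, 4, 3, 2, 1, 0],
  [5, 4, 2, 0],
  [6, 5, 3, 2],
  [5, 2, 0],
  [6, 5, 2, 1],
  [5, 3, 2, 1, 0],
  [6, 3, 2],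
  [3, 2],
  [2, 1],
  [6, 2, 1],
  [6, 2, 0],
  [2, 0],
  [6, 3, 2, 1, 0],
  [3, 2, 1, 0],
  [6, 3, 0],
  [0],
  [6, 1],
  [3, 1],
  [5, 4, 3, 1, 0],
  [6, 5, 4],
  [6, 5, 4, 3, 1, 0],
  [5, 4],
  [5, 0],
  [5, 3, 1],
  [6, 5],
  [6, 5, 3, 1, 0],
  [6, 3, 2, 1],
  [2],
  [3, 2, 1],
  [6, 2],
  [4, 2, 1],
  [4, 3, 2],
  [6, 4, 3, 2, 1],
  [6, 4, 2],
  [6, 4, 2, 1, 0],
  [6, 4, 3, 2, 0],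
  [4, 3, 2, 1, 0],
  [4, 2, 0],
  [6, 4, 3, 0],
  [4, 1, 0],
  [4, 3],
  [6, 4, 1],
  [6, 4, 3, 2],
  [6, 4, 2, 1],
  [4, 3, 2, 1],
  [4, 2],
  [6, 4, 3, 1],
  [4, 3, 1, 0],
  [4],
  [6, 4, 0],
  [6, 4, 1, 0],
  [4, 1],
  [4, 3, 0],
  [6, 4, 3],
  [4, 3, 2, 0],
  [4, 2, 1, 0],
  [6, 4, 3, 2, 1, 0],
  [6, 4, 2, 0],
  [3, 2, 0],
  [2, 1, 0],
  [6, 2, 1, 0],
  [6, 3, 2, 0]]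

/-- The certificate at 2. -/
def twoCert : CfsgLib.Schur.PrimeCert.Cert where
  p := 2
  n := 7
  rules := [
    ([0, 0], []),
    ([0, 1], [1, 0]),
    ([1, 1], []),
    ([0, 2], [2, 0]),
    ([1, 2], [2, 1]),
    ([2, 2], [0]),
    ([0, 3], [3, 0]),
    ([1, 3], [3, 1]),
    ([2, 3], [3, 2, 0]),
    ([3, 3], []),
    ([0, 4], [4, 0]),
    ([1, 4], [4, 1]),
    ([2, 4], [4, 2, 1, 0]),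
    ([3, 4], [4, 3, 1, 0]),
    ([4, 4], []),
    ([0, 5], [5, 0]),
    ([1, 5], [5, 1, 0]),
    ([2, 5], [5, 2, 0]),
    ([3, 5], [5, 3]),
    ([4, 5], [5, 4, 3, 2, 1]),
    ([5, 5], []),
    ([0, 6], [6, 0]),
    ([1, 6], [6, 1]),
    ([2, 6], [6, 2, 1, 0]),
    ([3, 6], [6, 3]),
    ([4, 6], [6, 4, 1]),
    ([5, 6], [6, 5, 3, 0]),
    ([6, 6], []),
    ([7, 0], [1, 0, 7]),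
    ([7, 1], [0, 7]),
    ([7, 2], [6, 4, 2, 1, 0, 7]),
    ([7, 3], [6, 3, 1, 7]),
    ([7, 4], [3, 2, 0, 7]),
    ([7, 6], [3, 0, 7]),
    ([8, 0], [0, 8]),
    ([8, 1], [1, 0, 8]),
    ([8, 2], [6, 4, 3, 1, 8]),
    ([8, 3], [6, 3, 8]),
    ([8, 4], [3, 2, 0, 8]),
    ([8, 6], [6, 8]),
    ([9, 0], [3, 2, 1, 0, 9]),
    ([9, 1], [4, 3, 2, 0, 9]),
    ([9, 4], [4, 3, 2, 1, 9]),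
    ([9, 3, 2], [4, 1, 0, 9]),
    ([9, 5], [5, 9]),
    ([10, 0], [6, 3, 1, 10]),
    ([10, 1], [6, 1, 0, 10]),
    ([10, 3], [6, 3, 0, 10]),
    ([10, 6], [3, 1, 0, 10]),
    ([11, 0], [5, 3, 0, 11]),
    ([11, 3], [3, 11]),
    ([11, 5], [5, 11])
  ]
  eqs := [
    ([2, 2, 2], [(0, 5, true), (0, 3, true)], [(1, 5, true)]),
    ([1, 2, 2], [(0, 4, true), (1, 4, true), (0, 5, true), (0, 1, true)], [(1, 5, true)]),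
    ([2, 3, 3], [(0, 8, true), (2, 6, true), (1, 8, true), (0, 9, true), (1, 0, true)], [(1, 9, true)]),
    ([2, 4, 4], [(0, 12, true), (3, 10, true), (2, 11, true), (1, 12, true), (0, 14, true), (2, 1, true), (1, 2, true), (1, 0, true)], [(1, 14, true)]),
    ([2, 2, 4], [(0, 5, true), (0, 10, true)], [(1, 12, true), (0, 12, true), (3, 3, true), (2, 4, true), (1, 5, true), (1, 1, true), (2, 0, true), (1, 2, true)]),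
    ([3, 3, 4], [(0, 9, true)], [(1, 13, true), (0, 13, true), (3, 6, true), (2, 7, true), (1, 9, true), (2, 1, true), (1, 2, true), (1, 0, true)]),
    ([1, 5, 5], [(0, 16, true), (2, 15, true), (1, 16, true), (0, 20, true), (1, 0, true)], [(1, 20, true)]),
    ([1, 1, 5], [(0, 2, true)], [(1, 16, true), (0, 16, true), (2, 1, true), (1, 2, true), (1, 0, true)]),
    ([4, 5, 5], [(0, 19, true), (4, 16, true), (3, 17, true), (2, 18, true), (1, 19, true), (0, 20, true), (3, 7, true), (2, 8, true), (1, 9, true), (2, 1, true), (3, 3, true), (2, 4, true), (1, 5, true), (1, 1, true), (2, 0, true), (2, 1, true), (1, 2, true), (1, 0, true)], [(1, 20, true)]),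
    ([4, 4, 5], [(0, 14, true)], [(1, 19, true), (0, 19, true), (4, 11, true), (3, 12, true), (2, 13, true), (1, 14, true), (3, 3, true), (2, 4, true), (4, 1, true), (3, 2, true), (3, 0, true), (3, 7, true), (2, 8, true), (1, 9, true), (2, 1, true), (3, 3, true), (2, 4, true), (1, 5, true), (1, 1, true), (2, 0, true), (1, 2, true)]),
    ([2, 4, 5], [(0, 12, true), (3, 15, true), (2, 16, true), (1, 17, true), (0, 19, true), (4, 4, true), (3, 5, true), (3, 1, true), (4, 0, true), (3, 2, true), (3, 0, true)], [(1, 19, true), (0, 17, true), (2, 10, true), (1, 12, true), (4, 0, true), (3, 7, true), (2, 8, true), (4, 1, true), (5, 3, true), (4, 4, true), (3, 5, true), (3, 1, true), (4, 0, true), (3, 2, true)]),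
    ([2, 6, 6], [(0, 23, true), (3, 21, true), (2, 22, true), (1, 23, true), (0, 27, true), (2, 1, true), (1, 2, true), (1, 0, true)], [(1, 27, true)]),
    ([2, 2, 6], [(0, 5, true), (0, 21, true)], [(1, 23, true), (0, 23, true), (3, 3, true), (2, 4, true), (1, 5, true), (1, 1, true), (2, 0, true), (1, 2, true)]),
    ([2, 3, 6], [(0, 8, true), (2, 21, true), (1, 23, true), (0, 24, true), (4, 0, true)], [(1, 24, true), (0, 23, true), (3, 6, true), (2, 7, true), (1, 8, true), (3, 1, true), (4, 0, true)]),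
    ([4, 6, 6], [(0, 25, true), (2, 22, true), (1, 25, true), (0, 27, true), (1, 2, true)], [(1, 27, true)]),
    ([5, 6, 6], [(0, 26, true), (3, 21, true), (2, 24, true), (1, 26, true), (0, 27, true), (2, 6, true), (1, 9, true), (1, 0, true)], [(1, 27, true)]),
    ([5, 5, 6], [(0, 20, true)], [(1, 26, true), (0, 26, true), (3, 15, true), (2, 18, true), (1, 20, true), (2, 6, true), (1, 9, true), (1, 0, true)]),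
    ([4, 5, 6], [(0, 19, true), (4, 22, true), (3, 23, true), (2, 24, true), (1, 25, true), (0, 26, true), (3, 10, true), (2, 13, true), (5, 0, true), (4, 2, true), (3, 9, true), (5, 1, true), (4, 2, true)], [(1, 26, true), (0, 25, true), (2, 16, true), (1, 19, true), (5, 2, true), (5, 6, true), (4, 8, true), (3, 9, true), (4, 0, true)]),
    ([7, 2, 2], [(1, 5, true)], [(0, 30, true), (5, 30, true), (4, 21, true), (3, 22, true), (2, 23, true), (1, 25, true), (0, 27, true), (1, 4, true), (2, 2, true), (2, 1, true), (3, 0, true), (2, 11, true), (1, 12, true), (0, 14, true), (2, 1, true), (1, 2, true), (1, 3, true), (0, 5, true), (0, 0, true), (0, 28, false)]),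
    ([7, 2, 3], [(1, 8, true)], [(0, 30, true), (5, 31, true), (4, 21, true), (3, 22, true), (2, 23, true), (1, 25, true), (0, 27, true), (1, 4, true), (2, 2, true), (2, 1, true), (3, 0, true), (2, 7, true), (1, 8, true), (3, 1, true), (4, 1, true), (3, 2, true), (3, 2, false), (4, 0, false), (3, 1, false), (2, 3, false), (2, 2, false), (3, 1, false), (0, 13, false), (1, 11, false), (0, 27, false), (1, 24, false), (2, 22, false), (8, 28, false), (3, 30, false), (0, 31, false)]),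
    ([7, 3, 3], [(1, 9, true)], [(0, 31, true), (3, 31, true), (2, 22, true), (1, 24, true), (0, 27, true), (1, 7, true), (0, 9, true), (0, 2, true)]),
    ([7, 2, 4], [(1, 12, true)], [(0, 30, true), (5, 32, true), (4, 6, true), (3, 7, true), (2, 8, true), (4, 1, true), (5, 0, true), (4, 4, true), (3, 5, true), (3, 1, true), (4, 0, true), (4, 0, false), (3, 1, false), (3, 0, false), (3, 2, false), (4, 1, false), (3, 1, false), (3, 5, false), (4, 4, false), (4, 0, false), (4, 2, false), (5, 1, false), (3, 4, false), (4, 3, false), (1, 13, false), (2, 12, false), (3, 11, false), (4, 0, false), (0, 24, false), (1, 23, false), (2, 21, false), (9, 28, false), (8, 29, false), (3, 30, false), (0, 32, false)]),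
    ([8, 2, 2], [(1, 5, true)], [(0, 36, true), (4, 36, true), (3, 22, true), (2, 24, true), (1, 25, true), (0, 27, true), (1, 7, true), (2, 2, true), (1, 13, true), (0, 14, true), (2, 6, true), (1, 7, true), (0, 9, true), (1, 1, true), (0, 2, true), (0, 34, false)]),
    ([8, 2, 4], [(1, 12, true)], [(0, 36, true), (4, 38, true), (3, 7, true), (2, 9, true), (2, 4, true), (4, 0, false), (3, 1, false), (3, 2, false), (4, 1, false), (3, 1, false), (2, 9, false), (3, 8, false), (4, 7, false), (4, 0, false), (4, 2, false), (5, 1, false), (3, 4, false), (4, 3, false), (1, 13, false), (2, 12, false), (3, 11, false), (4, 0, false), (0, 24, false), (1, 23, false), (2, 21, false), (9, 34, false), (7, 35, false), (3, 36, false), (0, 38, false)]),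
    ([8, 2, 6], [(1, 23, true)], [(0, 36, true), (4, 39, true), (3, 22, true), (2, 24, true), (1, 25, true), (0, 27, true), (1, 7, true), (2, 2, true), (2, 0, false), (2, 2, false), (0, 27, false), (7, 34, false), (5, 35, false), (1, 36, false), (0, 39, false)]),
    ([9, 0, 0], [(1, 0, true)], [(0, 40, true), (4, 40, true), (3, 6, true), (2, 7, true), (1, 8, true), (0, 9, true), (1, 1, true), (2, 0, true), (1, 4, true), (0, 5, true), (0, 1, true), (1, 1, true), (0, 2, true), (0, 0, true)]),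
    ([9, 1, 5], [(1, 16, true)], [(0, 41, true), (4, 44, true), (3, 15, true), (2, 17, true), (1, 18, true), (0, 19, true), (4, 7, true), (3, 8, true), (2, 9, true), (3, 1, true), (4, 3, true), (3, 4, true), (2, 5, true), (2, 1, true), (3, 0, true), (3, 0, true), (3, 0, false), (2, 1, false), (2, 5, false), (3, 0, false), (2, 9, false), (3, 8, false), (4, 6, false), (5, 40, false), (1, 41, false), (0, 44, false)]),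
    ([9, 4, 5], [(1, 19, true)], [(0, 42, true), (4, 44, true), (3, 16, true), (2, 17, true), (1, 18, true), (0, 19, true), (4, 7, true), (3, 8, true), (2, 9, true), (3, 1, true), (4, 3, true), (3, 4, true), (2, 5, true), (2, 1, true), (3, 0, true), (3, 1, true), (2, 2, true), (2, 0, true), (2, 0, false), (2, 5, false), (3, 0, false), (2, 9, false), (3, 8, false), (4, 6, false), (4, 0, false), (4, 2, false), (5, 1, false), (3, 4, false), (4, 3, false), (1, 13, false), (2, 12, false), (3, 10, false), (3, 2, false), (4, 1, false), (2, 4, false), (3, 3, false), (1, 7, false), (2, 6, false), (1, 14, false), (2, 11, false), (3, 10, false), (8, 41, false), (4, 42, false), (1, 43, false), (0, 44, false), (3, 12, true), (2, 13, true), (5, 3, true),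 (4, 4, true), (6, 1, true), (5, 2, true), (5, 0, true)]),
    ([10, 0, 0], [(1, 0, true)], [(0, 45, true), (3, 45, true), (2, 22, true), (1, 24, true), (0, 27, true), (1, 7, true), (0, 9, true), (0, 2, true)]),
    ([11, 0, 0], [(1, 0, true)], [(0, 49, true), (3, 49, true), (2, 15, true), (1, 18, true), (0, 20, true), (1, 6, true), (0, 9, true), (0, 0, true)])
  ]
  gauge := [[(5, 1)], [(5, 1), (12, 1)], [(12, 1), (19, 1), (26, 1)], [(5, 1), (26, 1)], [], [], [], [], [], [], [], []]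
  picks := [[(1, 1), (7, 1)], [(1, 1)], [(1, 1), (5, 1), (11, 1), (13, 1), (14, 1)], [(0, 1)], [(0, 1), (1, 1), (5, 1), (12, 1), (13, 1)], [], [(1, 1), (2, 1), (7, 1)], [(2, 1), (11, 1), (13, 1), (14, 1)], [(0, 1), (7, 1), (12, 1), (13, 1), (20, 1), (25, 1), (28, 1)], [(1, 1), (7, 1), (20, 1), (28, 1)], [(4, 1), (7, 1), (11, 1), (12, 1), (14, 1)], [(1, 1), (3, 1), (4, 1), (5, 1), (12, 1), (13, 1)], [], [(0, 1), (1, 1), (2, 1), (3, 1), (4, 1), (5, 1), (9, 1), (11, 1), (13, 1), (14, 1), (25, 1)], [(0, 1), (1, 1), (2, 1), (3, 1), (4, 1), (9, 1), (18, 1), (19, 1), (20, 1), (25, 1)], [(1, 1), (6, 1), (7, 1)], [(2, 1), (4, 1), (6, 1), (7, 1), (10, 1), (20, 1), (25, 1), (28, 1)], [(0, 1), (2, 1), (4, 1), (7, 1), (8, 1), (10, 1), (16, 1)], [(2, 1),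 (6, 1), (16, 1), (20, 1), (28, 1)], [], [(1, 1), (7, 1), (16, 1), (29, 1)], [(7, 1), (11, 1), (14, 1)], [(1, 1), (5, 1), (11, 1), (13, 1)], [(3, 1), (4, 1), (5, 1), (6, 1), (9, 1), (10, 1), (11, 1), (15, 1), (17, 1), (20, 1), (25, 1), (28, 1)], [(1, 1), (2, 1), (11, 1), (14, 1), (15, 1), (20, 1), (28, 1)], [(0, 1), (1, 1), (5, 1), (9, 1), (13, 1), (14, 1), (20, 1), (23, 1), (24, 1), (28, 1)], [], [(1, 1), (13, 1), (14, 1), (15, 1), (28, 1)]]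

/-- Words for the elements of the certificate at 3. -/
def threeElts : List (List Nat) := [
  [7],
  [6, 2, 0, 6, 1, 6, 4, 5, 0, 4, 1, 0, 4, 6, 1, 6, 7, 0, 2, 6, 3, 5, 3, 7, 5, 6, 1, 5, 6, 7],
  [3, 5, 3, 4, 1, 6, 1, 4, 4, 0, 1, 5, 0, 1, 4, 1, 6, 1, 4, 1, 0, 5, 1, 0, 4, 4, 1, 6, 1, 4, 7],
  [0, 1, 2, 2, 6, 2, 2, 1, 0, 1, 6, 0, 4, 2, 0, 1, 2, 2, 6, 2, 2, 1, 0, 1, 6, 0, 4, 2],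
  [2, 0, 1, 0, 5, 3, 5, 3, 7, 5, 6, 1, 5, 6, 7, 5, 0, 1, 0, 2, 7],
  [2, 4, 6, 1, 2, 0, 2, 4, 6, 1, 2, 0, 2, 4, 6, 1, 2, 0, 2, 4, 6, 1, 2, 0],
  [3, 5, 3, 7, 5, 6, 1, 5, 6, 7],
  [3, 5, 3],
  [2, 1, 3, 5, 3, 5, 4, 1],
  [0, 1, 4, 0],
  [6, 3, 5, 4, 2, 2, 1, 0, 3, 6, 4, 4, 3]]

/-- The elements of the Sylow subgroup, in increasing order of images. -/
def threeWords : List (List Nat) := [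
  [6, 6, 5, 4, 4, 2, 2, 0],
  [6, 6, 5, 3, 3, 2, 1],
  [6, 5, 4, 4, 3, 2, 2, 1, 1, 0],
  [6, 5, 4, 3, 3, 1, 0],
  [6, 6, 5, 4, 3, 1, 0],
  [5, 4, 1, 1, 0, 0],
  [6, 5, 2, 1, 1, 0, 0],
  [5, 3, 2, 1, 0, 0],
  [5, 4, 4, 3, 3, 2, 2, 1, 1],
  [5, 4, 4, 2, 0],
  [6, 6, 5, 4, 4, 3, 2, 0, 0],
  [5, 3, 3, 1, 1, 0, 0],
  [6, 6, 5, 1, 0, 0],
  [6, 5, 3, 1, 0],
  [6, 5, 4, 2, 2, 0, 0],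
  [6, 5, 4, 4, 3, 3, 2, 1, 0],
  [6, 6, 5, 4, 3, 3, 2, 2, 1, 0],
  [5, 4, 3, 2, 2],
  [6, 4, 2, 2, 0],
  [6, 3, 1],
  [6, 6, 4, 1],
  [4, 4, 3, 3, 0, 0],
  [6, 6, 4, 4, 3, 3, 2, 2, 1, 0],
  [6, 4, 4, 3, 3, 2, 1, 0, 0],
  [4, 2, 1],
  [3, 2, 2, 1, 0],
  [6, 6, 3, 2, 0, 0],
  [6, 5, 5, 4, 4, 3, 1, 1, 0, 0],
  [5, 5, 4, 3, 2, 2, 1, 0, 0],
  [6, 6, 5, 5, 3, 2, 0, 0],
  [5, 5, 3, 3, 0, 0],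
  [5, 5, 4, 4, 2, 1, 0],
  [6, 5, 5, 4, 3, 3, 2, 1, 1, 0, 0],
  [6, 6, 5, 5, 4, 1],
  [6, 5, 5, 2, 2, 1, 0, 0],
  [6, 6, 5, 5, 4, 4, 3, 3, 2, 2, 1, 0, 0],
  [6, 6, 5, 4, 4, 1],
  [6, 5, 4, 4, 3, 1, 1],
  [6, 6, 5, 4, 3, 2],
  [6, 5, 2, 2, 1, 0],
  [5, 4, 2, 1, 1, 0, 0],
  [6, 5, 4, 3, 3, 2, 1, 1],
  [6, 6, 5, 3, 3, 2, 2, 1],
  [5, 3, 2, 2, 1, 1, 0],
  [5, 4, 4, 3, 3, 1, 0, 0],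
  [6, 5, 5, 3, 3, 2, 1, 1, 0],
  [5, 5, 4, 2, 1, 1, 0],
  [5, 5, 3, 2, 2, 1, 1],
  [6, 6, 5, 5, 4, 4, 3, 2, 1, 1, 0],
  [6, 6, 5, 5, 4, 3, 3, 2, 2, 0],
  [6, 5, 5, 4, 4, 2, 2, 1, 0],
  [5, 5, 4, 4, 3, 3, 1, 0, 0],
  [6, 6, 5, 5, 0, 0],
  [6, 5, 5, 4, 3, 1, 1],
  [2, 1, 0],
  [6, 4, 4, 3, 0],
  [6, 4, 3, 3, 2, 0],
  [6, 6, 4, 3, 3, 2, 2, 1, 1],
  [6, 6, 4, 4, 3, 2, 1, 0, 0],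
  [4, 3, 3, 0, 0],
  [6, 6, 1, 1],
  [4, 4, 3, 2, 2, 1, 0, 0],
  [6, 2, 2, 1, 1, 0, 0],
  [5, 5, 4, 4, 3, 3, 2, 0, 0],
  [6, 5, 5, 3, 3, 2, 2],
  [6, 6, 5, 5, 2, 1, 0],
  [6, 6, 5, 5, 4, 4, 3, 2, 2, 1, 0, 0],
  [6, 6, 5, 5, 4, 3, 3, 0, 0],
  [5, 5, 3, 0],
  [6, 5, 5, 4, 3, 2, 1, 1, 0, 0],
  [5, 5, 4, 2, 2, 1, 1, 0],
  [6, 5, 5, 4, 4],
  [6, 5, 5, 3, 1, 1, 0, 0],
  [6, 5, 5, 4, 4, 3, 3, 2, 1, 1, 0],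
  [6, 6, 5, 5, 3, 3, 2, 2, 1, 1],
  [6, 6, 5, 5, 4, 3, 2, 1, 0, 0],
  [6, 6, 5, 5, 4, 4, 1, 1, 0, 0],
  [5, 5, 2, 0],
  [5, 5, 4, 3, 3, 1, 1, 0],
  [6, 5, 5, 4, 2, 2, 1],
  [5, 5, 4, 4, 3, 2, 2, 0],
  [5, 5, 4, 4, 3, 0, 0],
  [6, 6, 5, 5, 4, 4, 2, 1, 1, 0, 0],
  [6, 5, 5, 4, 4, 3, 3, 2, 2, 1, 1, 0],
  [6, 5, 5, 3, 2, 1, 0],
  [5, 5, 4, 3, 3, 2, 0, 0],
  [6, 6, 5, 5, 4, 3, 2, 2, 1, 1],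
  [6, 6, 5, 5, 3, 3, 1, 0, 0],
  [6, 5, 5, 4, 1, 1, 0],
  [5, 5, 2, 2, 1, 1, 0, 0],
  [6, 6, 5, 4, 3, 3, 1, 1, 0],
  [6, 6, 5, 2],
  [6, 5, 3, 2, 1, 1, 0],
  [5, 4, 3, 1, 1],
  [5, 4, 4, 2, 2, 1],
  [5, 3, 3, 2, 1, 1],
  [6, 5, 4, 0, 0],
  [6, 5, 4, 4, 3, 3, 2, 2],
  [6, 6, 5, 4, 4, 3, 2, 2],
  [4, 4, 3, 3, 2, 1],
  [6, 6, 4, 4, 3, 3],
  [6, 6, 4, 2, 1, 0, 0],
  [6, 3, 2, 0, 0],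
  [6, 6, 3, 2, 2, 1, 0, 0],
  [4, 2, 2, 0, 0],
  [3, 1, 0, 0],
  [6, 4, 1, 0, 0],
  [6, 4, 4, 3, 3, 2, 2, 1, 0, 0],
  [6, 5, 5, 4, 4, 3, 2, 2],
  [6, 6, 5, 5, 3, 1, 1],
  [6, 5, 5, 4, 3, 3, 1, 1],
  [5, 5, 4, 3, 2, 1, 0, 0],
  [5, 5, 4, 4, 1, 1, 0],
  [6, 6, 5, 5, 4, 4, 3, 3, 2, 1, 1, 0, 0],
  [6, 5, 5, 2, 0, 0],
  [5, 5, 3, 3, 2, 2, 1, 1, 0],
  [6, 6, 5, 5, 4, 2, 2, 1, 0, 0],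
  [6, 6, 5, 2, 1],
  [6, 6, 5, 4, 4, 3, 2, 2, 1, 0],
  [6, 6, 5, 4, 3, 3],
  [5, 4, 3, 0],
  [5, 3, 3, 2],
  [6, 5, 3, 2, 0],
  [6, 5, 4, 4, 3, 3, 2, 2, 1, 0, 0],
  [5, 4, 4, 2, 2, 1, 1, 0, 0],
  [6, 5, 4, 1, 0],
  [5, 2, 2, 1, 1, 0],
  [6, 5, 4, 3, 2, 1],
  [6, 6, 5, 3, 2, 2, 0],
  [5, 4, 3, 3, 2, 0],
  [6, 5, 3, 3, 2, 2, 1, 1, 0],
  [5, 4, 4, 3, 0],
  [6, 6, 5, 4, 2],
  [6, 6, 5, 4, 4, 3, 3, 1, 1, 0],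
  [6, 5, 4, 4, 1, 1],
  [6, 6, 4, 3, 3, 1, 1, 0],
  [4, 3, 3, 2, 1, 1, 0, 0],
  [2, 2, 1, 0, 0],
  [6, 1, 0, 0],
  [4, 4, 3, 1, 1],
  [6, 6, 4, 4, 3, 2, 2],
  [6, 4, 3, 3, 2, 2, 1, 0],
  [6, 4, 4, 3, 2, 0, 0],
  [6, 6, 2, 0],
  [6, 6, 2, 2, 0],
  [6, 2, 1, 1, 0, 0],
  [],
  [6, 4, 4, 3, 2, 2, 1, 1],
  [6, 4, 3, 3, 1],
  [6, 6, 4, 4, 3, 1],
  [4, 3, 3, 2, 2],
  [4, 4, 3, 2, 1, 1, 0, 0],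
  [6, 6, 4, 3, 3, 2, 1, 0, 0],
  [5, 5, 1, 0],
  [6, 6, 5, 5, 3, 3, 2, 0],
  [6, 6, 5, 5, 4, 3],
  [6, 5, 5, 4, 4, 3, 3, 1, 1],
  [6, 5, 5, 4, 2],
  [6, 5, 5, 3, 2, 2, 0, 0],
  [5, 5, 4, 3, 3, 2, 2, 1],
  [6, 6, 5, 5, 4, 4, 2, 2, 1, 1, 0, 0],
  [5, 5, 4, 4, 3, 2, 0, 0],
  [5, 2, 0],
  [6, 5, 4, 4, 2, 2, 1, 0, 0],
  [5, 4, 4, 3, 2, 2, 0],
  [6, 5, 4, 3, 1, 1],
  [6, 5, 3, 3, 2, 1, 1, 0, 0],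
  [5, 4, 3, 3, 1, 1],
  [6, 6, 5, 4, 4, 3, 3, 2, 2],
  [6, 6, 5, 4],
  [6, 6, 5, 3, 2, 1, 1, 0],
  [6, 6, 5, 5, 3, 2, 2],
  [6, 6, 5, 5, 4, 4, 3, 3, 1, 1, 0, 0],
  [5, 5, 3, 3, 2],
  [6, 6, 5, 5, 4, 2, 0, 0],
  [5, 5, 4, 3, 0, 0],
  [6, 5, 5, 4, 4, 3, 2, 0, 0],
  [6, 5, 5, 1, 0],
  [6, 5, 5, 4, 3, 3, 2, 2, 1, 0],
  [5, 5, 4, 4, 2, 2, 1, 1, 0, 0],
  [6, 5, 5, 4, 4, 2, 1],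
  [6, 5, 5, 4, 3, 2, 2, 1],
  [5, 5, 4, 4, 3, 3, 2, 2, 1, 0],
  [5, 5, 3, 2, 0],
  [6, 6, 5, 5, 4, 3, 3, 2, 1, 1, 0],
  [6, 5, 5, 3, 3],
  [6, 6, 5, 5, 2, 2, 1],
  [5, 5, 4, 1, 0, 0],
  [6, 6, 5, 5, 4, 4, 3, 1, 1, 0],
  [5, 4, 3, 2, 2, 1, 0],
  [6, 6, 5, 1, 1, 0],
  [6, 6, 5, 4, 4, 3, 2, 1],
  [5, 4, 4, 2, 1],
  [5, 3, 3],
  [6, 5, 4, 4, 3, 3, 2, 1, 1, 0],
  [6, 5, 3, 1, 1, 0],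
  [6, 6, 5, 4, 3, 3, 2, 2, 1, 1, 0, 0],
  [6, 5, 4, 2, 2, 1],
  [6, 5, 3, 3, 2, 2, 1, 0, 0],
  [6, 5, 4, 4, 1, 0],
  [5, 2, 2, 1, 0],
  [5, 4, 3, 3, 2, 1, 1, 0],
  [6, 5, 4, 3, 2],
  [6, 6, 5, 3, 2, 2, 1, 1, 0, 0],
  [6, 6, 5, 4, 4, 3, 3, 1, 0, 0],
  [5, 4, 4, 3, 1, 1],
  [6, 6, 5, 4, 2, 1, 1],
  [6, 5, 4, 3, 3, 2, 2, 1, 1, 0],
  [6, 6, 5, 3, 3],
  [6, 6, 5, 4, 3, 2, 2, 1, 0],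
  [6, 5, 1, 1],
  [6, 5, 4, 4, 3, 2, 1],
  [5, 3, 1, 1],
  [5, 4, 2, 2, 1, 0],
  [5, 4, 4, 3, 3, 2, 1, 1, 0],
  [6, 6, 5, 4, 4, 2, 1, 0],
  [5, 4, 3, 3, 2, 2, 1, 1, 0],
  [6, 5, 4, 4, 2, 1, 0, 0],
  [6, 5, 3, 3, 0],
  [5, 4, 4, 3, 2, 1],
  [6, 6, 5, 4, 2, 2, 1],
  [6, 6, 5, 4, 4, 3, 3, 2, 1, 1, 0, 0],
  [6, 5, 4, 3, 2, 2, 1, 0, 0],
  [5, 1, 1, 0, 0],
  [6, 6, 5, 3, 1, 1],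
  [6, 6, 4, 3, 1],
  [6, 6, 3, 3, 2, 1, 0, 0],
  [6, 3, 3, 1, 1, 0, 0],
  [6, 6, 4, 4, 2, 2],
  [4, 4, 1, 1, 0, 0],
  [3, 3, 2, 2, 1, 1, 0, 0],
  [6, 4, 4, 2],
  [6, 4, 3, 2, 2, 0, 0],
  [4, 3, 2, 1, 0],
  [6, 6, 5, 5, 4, 3, 1, 1, 0],
  [5, 5, 4, 3, 3, 2, 2, 0],
  [5, 5, 4, 4, 3, 2, 1, 1, 0],
  [6, 6, 5, 5, 4, 4, 2, 2, 1, 0, 0],
  [6, 6, 5, 5, 3, 3, 2, 1, 1, 0, 0],
  [6, 5, 5, 4, 2, 1, 1, 0],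
  [6, 5, 5, 4, 4, 3, 3, 1, 0],
  [5, 5, 0, 0],
  [6, 5, 5, 3, 2, 2, 1, 1, 0],
  [6, 6, 4, 4, 3, 1, 1, 0],
  [4, 3, 3, 2, 2, 1, 0],
  [4, 4, 3, 2, 0],
  [6, 6, 4, 3, 3, 2, 1, 1, 0],
  [1, 0],
  [6, 6, 2, 2, 1, 0, 0],
  [6, 2],
  [6, 4, 3, 3, 1, 1, 0],
  [6, 4, 4, 3, 2, 2, 0],
  [6, 6, 5, 5, 4, 4, 3, 3, 2, 2, 1, 1, 0],
  [6, 5, 5, 2, 2, 1, 1],
  [5, 5, 4, 3, 2, 2, 1, 1],
  [5, 5, 4, 4, 2, 1, 1, 0, 0],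
  [5, 5, 3, 3, 1],
  [6, 6, 5, 5, 3, 2, 1],
  [6, 5, 5, 4, 3, 3, 2],
  [6, 5, 5, 4, 4, 3, 0],
  [6, 6, 5, 5, 4, 1, 1, 0],
  [6, 6, 4, 4, 3, 2, 2, 1],
  [6, 4, 4, 3, 2, 1, 0],
  [6, 6, 4, 3, 3],
  [6, 1, 1, 0, 0],
  [6, 6, 2, 1, 0],
  [4, 4, 3, 0, 0],
  [2, 2, 1, 1],
  [4, 3, 3, 2],
  [6, 4, 3, 3, 2, 2, 1, 1],
  [6, 6, 5, 4, 4, 3, 3, 2, 2, 1, 1],
  [5, 2, 1, 1],
  [5, 4, 4, 3, 2, 2, 1, 1, 0],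
  [6, 5, 3, 3, 2, 1],
  [6, 6, 5, 3, 2, 1, 0, 0],
  [6, 6, 5, 4, 1, 1],
  [6, 5, 4, 4, 2, 2, 0],
  [5, 4, 3, 3, 1, 0, 0],
  [6, 5, 4, 3, 1],
  [6, 5, 5, 4, 4, 2, 2],
  [5, 5, 3, 2, 2, 1],
  [6, 6, 5, 5, 1, 1, 0, 0],
  [6, 6, 5, 5, 4, 4, 3, 2, 1, 0, 0],
  [6, 5, 5, 4, 3, 1, 0, 0],
  [5, 5, 4, 4, 3, 3, 0],
  [6, 6, 5, 5, 4, 3, 3, 2, 2, 1, 1, 0, 0],
  [5, 5, 4, 2, 1],
  [6, 5, 5, 3, 3, 2, 1, 0],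
  [4, 2, 0, 0],
  [6, 6, 4, 4, 3, 3, 2, 2],
  [6, 4, 2, 2, 1, 1, 0, 0],
  [4, 4, 3, 3, 1, 1, 0, 0],
  [6, 4, 4, 3, 3, 2],
  [6, 6, 3, 2, 1, 1, 0],
  [6, 3],
  [6, 6, 4],
  [3, 2, 2, 0, 0],
  [6, 6, 5, 4, 4, 3, 1, 1, 0],
  [5, 4, 3, 2],
  [6, 5, 4, 2, 1, 1],
  [5, 3, 3, 2, 2, 1, 0],
  [6, 6, 5, 4, 3, 3, 2, 1, 1, 0],
  [5, 4, 4, 1, 0, 0],
  [6, 5, 4, 4, 3, 3, 1, 0, 0],
  [6, 6, 5, 2, 2, 1, 0],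
  [6, 5, 3, 2, 2, 1, 1, 0],
  [6, 4, 1, 1],
  [6, 6, 3, 2, 2, 1, 1, 0, 0],
  [4, 2, 2, 1],
  [4, 4, 3, 3, 2, 1, 1],
  [6, 4, 4, 3, 3, 2, 2, 1, 1],
  [3, 1, 1],
  [6, 6, 4, 4, 3, 3, 1, 0, 0],
  [6, 6, 4, 2, 1, 1],
  [6, 3, 2, 1, 0],
  [6, 4, 4, 3, 3, 2, 2, 0, 0],
  [3, 0, 0],
  [6, 3, 2, 1, 1, 0],
  [6, 4, 0, 0],
  [6, 6, 3, 2, 2],
  [4, 4, 3, 3, 2, 0, 0],
  [6, 6, 4, 2],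
  [6, 6, 4, 4, 3, 3, 1, 1, 0],
  [4, 2, 2, 1, 1],
  [6, 5, 5, 4, 3, 3, 1],
  [5, 5, 3, 3, 2, 2, 1, 0],
  [6, 6, 5, 5, 4, 4, 3, 3, 2, 1, 0],
  [5, 5, 4, 4, 1],
  [6, 5, 5, 2, 1, 1, 0, 0],
  [6, 6, 5, 5, 4, 2, 2],
  [6, 5, 5, 4, 4, 3, 2, 2, 1, 1],
  [6, 6, 5, 5, 3, 1, 0, 0],
  [5, 5, 4, 3, 2, 0, 0],
  [5, 5, 3, 2, 1, 1],
  [5, 5, 4, 4, 3, 3, 2, 2, 0, 0],
  [6, 6, 5, 5, 4, 4, 3, 1, 0, 0],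
  [6, 6, 5, 5, 2, 2, 0, 0],
  [5, 5, 4, 0, 0],
  [6, 5, 5, 4, 3, 2, 2],
  [6, 6, 5, 5, 4, 3, 3, 2, 1],
  [6, 5, 5, 4, 4, 2],
  [6, 5, 5, 3, 3, 1, 1, 0],
  [6, 5, 4, 3, 2, 2, 1, 1],
  [6, 6, 5, 4, 2, 2, 1, 1, 0, 0],
  [6, 5, 4, 4, 2, 1, 1, 0],
  [5, 4, 4, 3, 2, 1, 1],
  [5, 4, 3, 3, 2, 2],
  [6, 6, 5, 3, 0, 0],
  [5, 0, 0],
  [6, 5, 3, 3, 1],
  [6, 6, 5, 4, 4, 3, 3, 2, 0, 0],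
  [6, 5, 2, 2, 1, 1, 0],
  [6, 6, 5, 3, 3, 2, 2, 1, 1, 0, 0],
  [6, 5, 4, 4, 3, 0, 0],
  [6, 6, 5, 4, 4, 1, 1, 0],
  [5, 4, 4, 3, 3, 1, 1],
  [5, 4, 2, 0],
  [6, 5, 4, 3, 3, 2, 0, 0],
  [6, 6, 5, 4, 3, 2, 1],
  [5, 3, 2, 2, 0, 0],
  [6, 4, 4, 2, 2],
  [6, 6, 4, 4, 1, 1],
  [3, 3, 1, 1],
  [6, 6, 3, 3, 2, 2, 1, 1, 0],
  [4, 4, 2, 0],
  [4, 3, 2, 2, 0],
  [6, 4, 3, 1, 0],
  [6, 3, 3, 2, 1, 0],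
  [6, 6, 4, 3, 2, 1, 0, 0],
  [6, 5, 0],
  [6, 6, 5, 4, 4, 2, 1, 1, 0, 0],
  [5, 3, 0, 0],
  [5, 4, 4, 3, 3, 2],
  [6, 6, 5, 3, 3, 1, 0, 0],
  [6, 5, 4, 3, 3, 2, 2, 0],
  [6, 6, 5, 4, 3, 2, 2, 1, 1],
  [6, 5, 4, 4, 3, 2, 1, 1, 0],
  [5, 4, 2, 2, 1, 1],
  [5, 5, 4, 3, 3, 0],
  [6, 6, 5, 5, 4, 4, 0, 0],
  [5, 5, 2, 1, 0, 0],
  [6, 6, 5, 5, 4, 3, 2, 1, 1, 0, 0],
  [6, 5, 5, 3],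
  [5, 5, 4, 4, 3, 2, 2, 1, 0],
  [6, 5, 5, 4, 2, 2, 1, 1],
  [6, 6, 5, 5, 3, 3, 2, 2, 0],
  [6, 5, 5, 4, 4, 3, 3, 2, 0, 0],
  [6, 6, 0],
  [4, 4, 3, 2, 2, 1, 1, 0, 0],
  [6, 2, 2],
  [6, 6, 4, 3, 3, 2, 2, 0],
  [6, 6, 4, 4, 3, 2, 1, 1, 0, 0],
  [4, 3, 3, 1, 0],
  [6, 4, 4, 3, 1, 0],
  [6, 4, 3, 3, 2, 1],
  [2, 1, 1],
  [6, 4, 4, 3, 3, 1],
  [6, 6, 4, 4, 3, 3, 2, 1, 1, 0],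
  [6, 6, 4, 2, 2, 1, 0, 0],
  [3, 2, 1, 0],
  [6, 4, 2, 1, 1, 0, 0],
  [4, 1, 1],
  [6, 3, 2, 2, 1, 1],
  [6, 6, 3, 1, 1],
  [4, 4, 3, 3, 2, 2, 1, 1],
  [6, 6, 3, 2, 1, 0],
  [3, 2, 2, 1, 1, 0],
  [6, 6, 4, 1, 1, 0, 0],
  [6, 4, 4, 3, 3, 2, 1, 1],
  [4, 4, 3, 3, 1, 0],
  [6, 3, 1, 1],
  [6, 6, 4, 4, 3, 3, 2, 2, 1, 1],
  [4, 2, 1, 1, 0],
  [6, 4, 2, 2, 1],
  [5, 4, 4, 1, 1, 0],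
  [6, 6, 5, 4, 3, 3, 2, 0, 0],
  [6, 5, 3, 2, 2, 0, 0],
  [5, 4, 3, 2, 1, 0],
  [6, 6, 5, 4, 4, 3, 0, 0],
  [6, 5, 4, 4, 3, 3, 1, 1, 0, 0],
  [6, 6, 5, 2, 2, 1, 1, 0],
  [6, 5, 4, 2],
  [5, 3, 3, 2, 2, 1, 1, 0, 0],
  [4, 4, 3, 2, 1, 0, 0],
  [6, 4, 4, 3, 2, 2, 1, 0],
  [6, 4, 3, 3],
  [6, 6, 4, 3, 3, 2, 0],
  [6, 2, 1],
  [6, 6, 4, 4, 3, 0, 0],
  [6, 6, 2, 2, 1, 1],
  [1, 1],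
  [4, 3, 3, 2, 2, 1, 1],
  [6, 6, 5, 4, 3, 3, 2, 1],
  [5, 3, 3, 2, 2],
  [5, 4, 4],
  [6, 6, 5, 4, 4, 3, 1],
  [6, 6, 5, 2, 2, 0, 0],
  [6, 5, 4, 2, 1, 0],
  [6, 5, 3, 2, 2, 1],
  [5, 4, 3, 2, 1, 1, 0],
  [6, 5, 4, 4, 3, 3],
  [6, 3, 3, 2, 2, 0, 0],
  [4, 4, 2, 2, 1, 0, 0],
  [6, 4, 3, 2, 1, 1, 0],
  [4, 3, 1, 1, 0, 0],
  [6, 4, 4, 0, 0],
  [6, 6, 4, 3, 2, 2, 1, 0, 0],
  [6, 6, 3, 3],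
  [6, 6, 4, 4, 2, 1, 0],
  [3, 3, 2, 1, 1, 0],
  [6, 5, 4, 4, 3, 2, 2, 0, 0],
  [6, 5, 4, 3, 3, 1, 1],
  [5, 3, 2, 1, 1],
  [6, 6, 5, 4, 4, 2, 2, 1, 0],
  [5, 4, 4, 3, 3, 2, 2],
  [5, 4, 0, 0],
  [6, 5, 2, 0],
  [6, 6, 5, 4, 3, 1, 1, 0],
  [6, 6, 5, 3, 3, 2, 1, 1],
  [6, 6, 5, 5, 3, 3, 1, 1],
  [6, 6, 5, 5, 4, 4, 2, 0, 0],
  [6, 5, 5, 4, 4, 3, 3, 2, 2, 0, 0],
  [6, 5, 5, 4, 0, 0],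
  [5, 5, 2, 2],
  [6, 6, 5, 5, 4, 3, 2, 2, 0, 0],
  [5, 5, 4, 4, 3, 1, 0],
  [6, 5, 5, 3, 2, 1, 1, 0],
  [5, 5, 4, 3, 3, 2, 1, 0],
  [6, 5, 5, 0, 0],
  [5, 5, 4, 4, 2, 2, 1],
  [6, 5, 5, 4, 3, 3, 2, 2, 0],
  [5, 5, 3, 3, 2, 1, 1],
  [6, 5, 5, 4, 4, 3, 2, 1, 1, 0, 0],
  [5, 5, 4, 3, 1, 1],
  [6, 6, 5, 5, 4, 4, 3, 3, 1, 0],
  [6, 6, 5, 5, 3, 2, 2, 1, 1, 0, 0],
  [6, 6, 5, 5, 4, 2, 1, 1],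
  [3, 3, 2, 2, 1],
  [6, 4, 4, 2, 1, 1, 0, 0],
  [6, 4, 3, 2, 2, 1, 1, 0],
  [6, 6, 4, 3, 0],
  [6, 6, 4, 4, 2, 2, 1, 1],
  [4, 3, 2, 0, 0],
  [6, 3, 3, 1],
  [4, 4, 1, 0, 0],
  [6, 6, 3, 3, 2, 0, 0],
  [5, 3, 3, 2, 1, 0],
  [5, 4, 4, 2, 2, 0, 0],
  [5, 4, 3, 1, 0],
  [6, 6, 5, 4, 3, 3, 1],
  [6, 6, 5, 2, 1, 1],
  [6, 5, 4, 4, 3, 3, 2, 2, 1, 1, 0],
  [6, 5, 4, 1, 1],
  [6, 5, 3, 2, 1, 0, 0],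
  [6, 6, 5, 4, 4, 3, 2, 2, 1, 1, 0],
  [6, 6, 5, 5, 4, 3, 3, 2],
  [6, 6, 5, 5, 4, 4, 3, 0, 0],
  [6, 5, 5, 4, 3, 2, 2, 1, 1, 0, 0],
  [6, 5, 5, 3, 3, 1, 0],
  [5, 5, 4, 1, 1, 0],
  [6, 5, 5, 4, 4, 2, 1, 1, 0],
  [5, 5, 4, 4, 3, 3, 2, 2, 1, 1],
  [6, 6, 5, 5, 2, 2, 1, 1],
  [5, 5, 3, 2, 1, 0, 0],
  [6, 6, 3, 3, 1],
  [3, 3, 2],
  [6, 3, 3, 2, 2, 1, 0, 0],
  [4, 4, 2, 2, 1, 1, 0],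
  [6, 6, 4, 3, 2, 2, 1, 1, 0, 0],
  [6, 4, 3, 2],
  [4, 3],
  [6, 6, 4, 4, 2, 1, 1, 0],
  [6, 4, 4, 1, 0, 0],
  [5, 4, 4, 3, 2, 0, 0],
  [6, 5, 3, 3, 1, 1, 0],
  [5, 4, 3, 3, 2, 2, 1, 0],
  [6, 5, 4, 3, 2, 2, 0],
  [5, 1],
  [6, 5, 4, 4, 2, 0, 0],
  [6, 6, 5, 4, 4, 3, 3, 2, 1],
  [6, 6, 5, 3, 1, 0, 0],
  [6, 6, 5, 4, 2, 2, 0, 0],
  [6, 4, 3, 1, 1, 0],
  [6, 6, 3, 3, 2, 2, 0],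
  [6, 4, 4, 2, 2, 1, 0, 0],
  [6, 3, 3, 2, 1, 1, 0, 0],
  [3, 3, 0, 0],
  [6, 6, 4, 3, 2, 1, 1, 0],
  [4, 3, 2, 2, 1, 0],
  [6, 6, 4, 4, 0],
  [4, 4, 2, 1],
  [3, 2, 0],
  [6, 3, 2, 2, 1],
  [4, 1, 0, 0],
  [4, 4, 3, 3, 2, 2, 1, 0],
  [6, 6, 4, 2, 2, 0],
  [6, 6, 3, 1, 0, 0],
  [6, 4, 2, 1, 0],
  [6, 4, 4, 3, 3, 0, 0],
  [6, 6, 4, 4, 3, 3, 2, 1],
  [6, 6, 5],
  [5, 3, 3, 1, 0, 0],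
  [6, 5, 4, 4, 3, 3, 2, 0, 0],
  [5, 4, 3, 2, 2, 1, 1],
  [6, 6, 5, 4, 4, 3, 2, 1, 1, 0],
  [6, 5, 4, 2, 2, 1, 1],
  [6, 6, 5, 4, 3, 3, 2, 2, 0],
  [5, 4, 4, 2, 1, 1],
  [6, 5, 3, 0, 0],
  [6, 6, 5, 5, 4, 2, 2, 1, 1, 0],
  [5, 5, 4, 3, 2, 1, 1, 0, 0],
  [6, 5, 5, 4, 4, 3, 2, 2, 1],
  [5, 5, 3, 3, 2, 2, 0],
  [6, 5, 5, 2, 1, 0, 0],
  [6, 6, 5, 5, 3, 0],
  [6, 5, 5, 4, 3, 3, 0],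
  [5, 5, 4, 4],
  [6, 6, 5, 5, 4, 4, 3, 3, 2, 0, 0],
  [4, 3, 3, 1, 1, 0, 0],
  [6, 4, 3, 3, 2, 1, 1, 0],
  [6, 6, 1, 0],
  [2],
  [6, 2, 2, 1],
  [6, 6, 4, 3, 3, 2, 2, 1, 0],
  [4, 4, 3, 2, 2, 0],
  [6, 4, 4, 3, 1, 1],
  [6, 6, 4, 4, 3, 2],
  [6, 4, 3, 2, 2, 1, 0, 0],
  [4, 3, 2, 1, 1, 0, 0],
  [4, 4, 0],
  [6, 4, 4, 2, 1],
  [6, 6, 4, 4, 2, 2, 1, 0, 0],
  [6, 6, 3, 3, 2, 1, 1, 0, 0],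
  [3, 3, 2, 2],
  [6, 6, 4, 3, 1, 1, 0],
  [6, 3, 3],
  [6, 6, 3, 0],
  [6, 4, 2, 0],
  [6, 3, 2, 2, 0, 0],
  [4, 0, 0],
  [6, 6, 4, 4, 3, 3, 2, 0, 0],
  [4, 4, 3, 3, 2, 2, 0, 0],
  [6, 4, 4, 3, 3, 1, 1],
  [6, 6, 4, 2, 2, 1, 1, 0, 0],
  [3, 2, 1, 1, 0],
  [5, 5, 4, 2, 2],
  [6, 6, 5, 5, 2, 1, 1, 0, 0],
  [6, 6, 5, 5, 4, 3, 3, 1, 0, 0],
  [5, 5, 4, 4, 3, 3, 2, 1, 0, 0],
  [6, 5, 5, 4, 4, 1, 0, 0],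
  [6, 6, 5, 5, 4, 4, 3, 2, 2, 1, 1],
  [6, 5, 5, 3, 3, 2, 2, 1, 0],
  [5, 5, 3, 1, 0],
  [6, 5, 5, 4, 3, 2, 0, 0],
  [6, 6, 4, 3, 2, 0, 0],
  [4, 4, 2, 1, 1],
  [4, 3, 2, 2, 1, 1, 0, 0],
  [6, 3, 3, 2, 0, 0],
  [3, 3, 1, 0],
  [6, 6, 4, 4, 1],
  [6, 6, 3, 3, 2, 2, 1, 0],
  [6, 4, 4, 2, 2, 1, 1, 0],
  [6, 4, 3, 0],
  [5, 5, 4, 4, 3, 2, 1, 0],
  [6, 6, 5, 5, 3, 3, 2, 1, 0, 0],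
  [6, 5, 5, 4, 4, 3, 3, 0],
  [6, 5, 5, 3, 2, 2, 1, 0],
  [6, 6, 5, 5, 4, 4, 2, 2, 0],
  [6, 5, 5, 4, 2, 1],
  [5, 5, 1, 1],
  [6, 6, 5, 5, 4, 3, 1, 0],
  [5, 5, 4, 3, 3, 2, 2, 1, 1, 0, 0],
  [6, 4, 3, 3, 2, 2],
  [6, 4, 4, 3, 2, 1, 1, 0],
  [6, 6, 2, 1, 1],
  [4, 3, 3, 2, 1, 0],
  [4, 4, 3, 1, 0, 0],
  [6, 6, 4, 4, 3, 2, 2, 1, 1, 0],
  [6, 6, 4, 3, 3, 1, 0, 0],
  [2, 2, 0],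
  [6, 0],
  [6, 6, 5, 4, 3, 2, 1, 1],
  [5, 4, 4, 3, 3, 0],
  [6, 6, 5, 3, 3, 2, 2, 0],
  [6, 5, 4, 4, 3, 1],
  [6, 5, 2, 2, 0],
  [5, 3, 2, 2, 1],
  [6, 5, 4, 3, 3, 2, 1, 0, 0],
  [6, 6, 5, 4, 4, 0, 0],
  [5, 4, 2, 1, 0],
  [5, 4, 3, 3, 2, 1, 0],
  [6, 5, 4, 4, 0],
  [6, 5, 4, 3, 2, 1, 1, 0],
  [5, 2, 2, 0],
  [6, 6, 5, 4, 4, 3, 3, 0],
  [6, 6, 5, 4, 2, 1],
  [6, 5, 3, 3, 2, 2, 0],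
  [6, 6, 5, 3, 2, 2, 1, 0, 0],
  [5, 4, 4, 3, 1, 0],
  [6, 6, 5, 5, 4, 0, 0],
  [6, 5, 5, 4, 4, 3, 1, 0, 0],
  [6, 5, 5, 2, 2, 0, 0],
  [6, 5, 5, 4, 3, 3, 2, 1, 0, 0],
  [6, 6, 5, 5, 4, 4, 3, 3, 2, 2, 0, 0],
  [5, 5, 3, 3, 1, 1, 0, 0],
  [5, 5, 4, 3, 2, 2],
  [5, 5, 4, 4, 2, 0],
  [6, 6, 5, 5, 3, 2, 1, 1, 0, 0],
  [6, 6, 4, 4, 2, 0, 0],
  [4, 3, 1],
  [6, 4, 3, 2, 1, 0],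
  [6, 6, 4, 3, 2, 2, 0, 0],
  [3, 3, 2, 1],
  [6, 4, 4, 1, 1],
  [6, 3, 3, 2, 2, 1, 1, 0],
  [4, 4, 2, 2, 0, 0],
  [6, 6, 3, 3, 1, 1, 0],
  [6, 6, 5, 4, 3],
  [6, 6, 5, 3, 3, 2, 0, 0],
  [6, 6, 5, 4, 4, 2, 2, 1, 1],
  [5, 4, 1],
  [6, 5, 4, 3, 3],
  [6, 5, 2, 1, 0, 0],
  [6, 5, 4, 4, 3, 2, 2, 1],
  [5, 4, 4, 3, 3, 2, 2, 1, 0],
  [5, 3, 2],
  [6, 5, 5, 4, 3, 2, 1, 0],
  [5, 5, 4, 2, 2, 1, 0, 0],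
  [5, 5, 3, 1, 1],
  [6, 5, 5, 4, 4, 1, 1, 0],
  [6, 6, 5, 5, 4, 4, 3, 2, 2],
  [5, 5, 4, 4, 3, 3, 2, 1, 1, 0],
  [6, 5, 5, 3, 3, 2, 2, 1, 1, 0, 0],
  [6, 6, 5, 5, 2],
  [6, 6, 5, 5, 4, 3, 3, 1, 1, 0, 0],
  [6, 5, 3, 3, 2],
  [6, 5, 4, 3],
  [5, 4, 4, 3, 2, 2, 1, 0, 0],
  [6, 6, 5, 4, 1],
  [6, 5, 4, 4, 2, 2, 1, 1, 0],
  [5, 4, 3, 3, 0],
  [5, 2, 1, 0, 0],
  [6, 6, 5, 3, 2, 0],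
  [6, 6, 5, 4, 4, 3, 3, 2, 2, 1, 0, 0],
  [5, 5, 4, 3, 3, 2, 1, 1, 0],
  [6, 5, 5, 4, 1],
  [6, 6, 5, 5, 3, 3, 0],
  [6, 5, 5, 3, 2],
  [6, 6, 5, 5, 4, 3, 2, 2, 1, 0],
  [5, 5, 2, 2, 1, 0, 0],
  [6, 6, 5, 5, 4, 4, 2, 1],
  [5, 5, 4, 4, 3, 1, 1],
  [6, 5, 5, 4, 4, 3, 3, 2, 2, 1, 0, 0],
  [5, 5, 4, 2],
  [6, 5, 5, 4, 3],
  [6, 6, 5, 5, 1, 0, 0],
  [5, 5, 4, 4, 3, 3, 1, 1],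
  [6, 6, 5, 5, 4, 3, 3, 2, 2, 1],
  [6, 5, 5, 3, 3, 2],
  [5, 5, 3, 2, 2, 0],
  [6, 5, 5, 4, 4, 2, 2, 1, 1, 0],
  [6, 6, 5, 5, 4, 4, 3, 2],
  [6, 6, 5, 5, 4, 3, 2, 0, 0],
  [6, 5, 5, 4, 2, 2, 0],
  [6, 6, 5, 5, 4, 4, 1, 0],
  [6, 5, 5, 4, 4, 3, 3, 2, 1, 0, 0],
  [5, 5, 2, 1, 1],
  [5, 5, 4, 4, 3, 2, 2, 1, 1],
  [6, 6, 5, 5, 3, 3, 2, 2, 1, 0],
  [5, 5, 4, 3, 3, 1, 0, 0],
  [6, 5, 5, 3, 1, 0],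
  [6, 5, 5, 4, 3, 3, 2, 2, 1, 1, 0, 0],
  [6, 5, 5, 1, 1, 0, 0],
  [5, 5, 4, 4, 2, 2, 0],
  [6, 5, 5, 4, 4, 3, 2, 1, 0, 0],
  [5, 5, 4, 3, 1, 0, 0],
  [6, 6, 5, 5, 4, 4, 3, 3],
  [6, 6, 5, 5, 4, 2, 1, 0],
  [6, 6, 5, 5, 3, 2, 2, 1, 0, 0],
  [5, 5, 3, 3, 2, 1, 0, 0],
  [6, 6, 5, 4, 3, 2, 2],
  [6, 6, 5, 4, 4, 2, 0],
  [6, 5, 4, 3, 3, 2, 2, 1],
  [6, 5, 1, 0, 0],
  [5, 4, 2, 2, 0],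
  [5, 4, 4, 3, 3, 2, 1],
  [6, 5, 4, 4, 3, 2, 0, 0],
  [6, 6, 5, 3, 3, 1, 1],
  [5, 3, 1, 0],
  [6, 6, 5, 4, 4, 2, 2, 0, 0],
  [6, 6, 5, 3, 3, 2, 1, 0],
  [6, 5, 4, 4, 3, 2, 2, 1, 1, 0, 0],
  [6, 5, 4, 3, 3, 1, 0, 0],
  [6, 6, 5, 4, 3, 1, 0, 0],
  [5, 4, 1, 1],
  [6, 5, 2, 1, 1],
  [5, 3, 2, 1],
  [5, 4, 4, 3, 3, 2, 2, 1, 1, 0],
  [5, 4, 4, 2, 0, 0],
  [6, 6, 5, 4, 4, 3, 2],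
  [5, 3, 3, 1, 1],
  [6, 6, 5, 1],
  [6, 5, 3, 1, 0, 0],
  [6, 5, 4, 2, 2],
  [6, 5, 4, 4, 3, 3, 2, 1, 0, 0],
  [6, 6, 5, 4, 3, 3, 2, 2, 1, 0, 0],
  [5, 4, 3, 2, 2, 0],
  [6, 4, 2, 2, 0, 0],
  [6, 3, 1, 0],
  [6, 6, 4, 1, 0],
  [4, 4, 3, 3],
  [6, 6, 4, 4, 3, 3, 2, 2, 1, 0, 0],
  [6, 4, 4, 3, 3, 2, 1],
  [4, 2, 1, 0],
  [3, 2, 2, 1, 0, 0],
  [6, 6, 3, 2],
  [6, 5, 5, 4, 4, 3, 1, 1],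
  [5, 5, 4, 3, 2, 2, 1],
  [6, 6, 5, 5, 3, 2],
  [5, 5, 3, 3],
  [5, 5, 4, 4, 2, 1, 0, 0],
  [6, 5, 5, 4, 3, 3, 2, 1, 1],
  [6, 6, 5, 5, 4, 1, 0],
  [6, 5, 5, 2, 2, 1],
  [6, 6, 5, 5, 4, 4, 3, 3, 2, 2, 1],
  [6, 6, 5, 4, 4, 1, 0],
  [6, 5, 4, 4, 3, 1, 1, 0],
  [6, 6, 5, 4, 3, 2, 0],
  [6, 5, 2, 2, 1, 0, 0],
  [5, 4, 2, 1, 1],
  [6, 5, 4, 3, 3, 2, 1, 1, 0],
  [6, 6, 5, 3, 3, 2, 2, 1, 0],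
  [5, 3, 2, 2, 1, 1, 0, 0],
  [5, 4, 4, 3, 3, 1],
  [6, 5, 5, 3, 3, 2, 1, 1, 0, 0],
  [5, 5, 4, 2, 1, 1, 0, 0],
  [5, 5, 3, 2, 2, 1, 1, 0],
  [6, 6, 5, 5, 4, 4, 3, 2, 1, 1, 0, 0],
  [6, 6, 5, 5, 4, 3, 3, 2, 2, 0, 0],
  [6, 5, 5, 4, 4, 2, 2, 1, 0, 0],
  [5, 5, 4, 4, 3, 3, 1],
  [6, 6, 5, 5],
  [6, 5, 5, 4, 3, 1, 1, 0],
  [2, 1, 0, 0],
  [6, 4, 4, 3, 0, 0],
  [6, 4, 3, 3, 2, 0, 0],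
  [6, 6, 4, 3, 3, 2, 2, 1, 1, 0],
  [6, 6, 4, 4, 3, 2, 1],
  [4, 3, 3],
  [6, 6, 1, 1, 0],
  [4, 4, 3, 2, 2, 1],
  [6, 2, 2, 1, 1],
  [5, 5, 4, 4, 3, 3, 2],
  [6, 5, 5, 3, 3, 2, 2, 0],
  [6, 6, 5, 5, 2, 1, 0, 0],
  [6, 6, 5, 5, 4, 4, 3, 2, 2, 1],
  [6, 6, 5, 5, 4, 3, 3],
  [5, 5, 3, 0, 0],
  [6, 5, 5, 4, 3, 2, 1, 1],
  [5, 5, 4, 2, 2, 1, 1, 0, 0],
  [6, 5, 5, 4, 4, 0],
  [6, 5, 5, 3, 1, 1],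
  [6, 5, 5, 4, 4, 3, 3, 2, 1, 1, 0, 0],
  [6, 6, 5, 5, 3, 3, 2, 2, 1, 1, 0],
  [6, 6, 5, 5, 4, 3, 2, 1],
  [6, 6, 5, 5, 4, 4, 1, 1],
  [5, 5, 2, 0, 0],
  [5, 5, 4, 3, 3, 1, 1, 0, 0],
  [6, 5, 5, 4, 2, 2, 1, 0],
  [5, 5, 4, 4, 3, 2, 2, 0, 0],
  [5, 5, 4, 4, 3],
  [6, 6, 5, 5, 4, 4, 2, 1, 1],
  [6, 5, 5, 4, 4, 3, 3, 2, 2, 1, 1, 0, 0],
  [6, 5, 5, 3, 2, 1, 0, 0],
  [5, 5, 4, 3, 3, 2],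
  [6, 6, 5, 5, 4, 3, 2, 2, 1, 1, 0],
  [6, 6, 5, 5, 3, 3, 1],
  [6, 5, 5, 4, 1, 1, 0, 0],
  [5, 5, 2, 2, 1, 1],
  [6, 6, 5, 4, 3, 3, 1, 1, 0, 0],
  [6, 6, 5, 2, 0],
  [6, 5, 3, 2, 1, 1, 0, 0],
  [5, 4, 3, 1, 1, 0],
  [5, 4, 4, 2, 2, 1, 0],
  [5, 3, 3, 2, 1, 1, 0],
  [6, 5, 4],
  [6, 5, 4, 4, 3, 3, 2, 2, 0],
  [6, 6, 5, 4, 4, 3, 2, 2, 0],
  [4, 4, 3, 3, 2, 1, 0],
  [6, 6, 4, 4, 3, 3, 0],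
  [6, 6, 4, 2, 1],
  [6, 3, 2],
  [6, 6, 3, 2, 2, 1],
  [4, 2, 2],
  [3, 1],
  [6, 4, 1],
  [6, 4, 4, 3, 3, 2, 2, 1],
  [6, 5, 5, 4, 4, 3, 2, 2, 0],
  [6, 6, 5, 5, 3, 1, 1, 0],
  [6, 5, 5, 4, 3, 3, 1, 1, 0],
  [5, 5, 4, 3, 2, 1],
  [5, 5, 4, 4, 1, 1, 0, 0],
  [6, 6, 5, 5, 4, 4, 3, 3, 2, 1, 1],
  [6, 5, 5, 2],
  [5, 5, 3, 3, 2, 2, 1, 1, 0, 0],
  [6, 6, 5, 5, 4, 2, 2, 1],
  [6, 6, 5, 2, 1, 0],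
  [6, 6, 5, 4, 4, 3, 2, 2, 1, 0, 0],
  [6, 6, 5, 4, 3, 3, 0],
  [5, 4, 3, 0, 0],
  [5, 3, 3, 2, 0],
  [6, 5, 3, 2, 0, 0],
  [6, 5, 4, 4, 3, 3, 2, 2, 1],
  [5, 4, 4, 2, 2, 1, 1],
  [6, 5, 4, 1, 0, 0],
  [5, 2, 2, 1, 1, 0, 0],
  [6, 5, 4, 3, 2, 1, 0],
  [6, 6, 5, 3, 2, 2, 0, 0],
  [5, 4, 3, 3, 2, 0, 0],
  [6, 5, 3, 3, 2, 2, 1, 1, 0, 0],
  [5, 4, 4, 3, 0, 0],
  [6, 6, 5, 4, 2, 0],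
  [6, 6, 5, 4, 4, 3, 3, 1, 1, 0, 0],
  [6, 5, 4, 4, 1, 1, 0],
  [6, 6, 4, 3, 3, 1, 1, 0, 0],
  [4, 3, 3, 2, 1, 1],
  [2, 2, 1],
  [6, 1],
  [4, 4, 3, 1, 1, 0],
  [6, 6, 4, 4, 3, 2, 2, 0],
  [6, 4, 3, 3, 2, 2, 1, 0, 0],
  [6, 4, 4, 3, 2],
  [6, 6, 2, 0, 0],
  [6, 6, 2, 2, 0, 0],
  [6, 2, 1, 1],
  [0],
  [6, 4, 4, 3, 2, 2, 1, 1, 0],
  [6, 4, 3, 3, 1, 0],
  [6, 6, 4, 4, 3, 1, 0],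
  [4, 3, 3, 2, 2, 0],
  [4, 4, 3, 2, 1, 1],
  [6, 6, 4, 3, 3, 2, 1],
  [5, 5, 1, 0, 0],
  [6, 6, 5, 5, 3, 3, 2, 0, 0],
  [6, 6, 5, 5, 4, 3, 0],
  [6, 5, 5, 4, 4, 3, 3, 1, 1, 0],
  [6, 5, 5, 4, 2, 0],
  [6, 5, 5, 3, 2, 2],
  [5, 5, 4, 3, 3, 2, 2, 1, 0],
  [6, 6, 5, 5, 4, 4, 2, 2, 1, 1],
  [5, 5, 4, 4, 3, 2],
  [5, 2, 0, 0],
  [6, 5, 4, 4, 2, 2, 1],
  [5, 4, 4, 3, 2, 2, 0, 0],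
  [6, 5, 4, 3, 1, 1, 0],
  [6, 5, 3, 3, 2, 1, 1],
  [5, 4, 3, 3, 1, 1, 0],
  [6, 6, 5, 4, 4, 3, 3, 2, 2, 0],
  [6, 6, 5, 4, 0],
  [6, 6, 5, 3, 2, 1, 1, 0, 0],
  [6, 6, 5, 5, 3, 2, 2, 0],
  [6, 6, 5, 5, 4, 4, 3, 3, 1, 1],
  [5, 5, 3, 3, 2, 0],
  [6, 6, 5, 5, 4, 2],
  [5, 5, 4, 3],
  [6, 5, 5, 4, 4, 3, 2],
  [6, 5, 5, 1, 0, 0],
  [6, 5, 5, 4, 3, 3, 2, 2, 1, 0, 0],
  [5, 5, 4, 4, 2, 2, 1, 1],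
  [6, 5, 5, 4, 4, 2, 1, 0],
  [6, 5, 5, 4, 3, 2, 2, 1, 0],
  [5, 5, 4, 4, 3, 3, 2, 2, 1, 0, 0],
  [5, 5, 3, 2, 0, 0],
  [6, 6, 5, 5, 4, 3, 3, 2, 1, 1, 0, 0],
  [6, 5, 5, 3, 3, 0],
  [6, 6, 5, 5, 2, 2, 1, 0],
  [5, 5, 4, 1],
  [6, 6, 5, 5, 4, 4, 3, 1, 1, 0, 0],
  [5, 4, 3, 2, 2, 1, 0, 0],
  [6, 6, 5, 1, 1, 0, 0],
  [6, 6, 5, 4, 4, 3, 2, 1, 0],
  [5, 4, 4, 2, 1, 0],
  [5, 3, 3, 0],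
  [6, 5, 4, 4, 3, 3, 2, 1, 1, 0, 0],
  [6, 5, 3, 1, 1, 0, 0],
  [6, 6, 5, 4, 3, 3, 2, 2, 1, 1],
  [6, 5, 4, 2, 2, 1, 0],
  [6, 5, 3, 3, 2, 2, 1],
  [6, 5, 4, 4, 1, 0, 0],
  [5, 2, 2, 1, 0, 0],
  [5, 4, 3, 3, 2, 1, 1, 0, 0],
  [6, 5, 4, 3, 2, 0],
  [6, 6, 5, 3, 2, 2, 1, 1],
  [6, 6, 5, 4, 4, 3, 3, 1],
  [5, 4, 4, 3, 1, 1, 0],
  [6, 6, 5, 4, 2, 1, 1, 0],
  [6, 5, 4, 3, 3, 2, 2, 1, 1, 0, 0],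
  [6, 6, 5, 3, 3, 0],
  [6, 6, 5, 4, 3, 2, 2, 1, 0, 0],
  [6, 5, 1, 1, 0],
  [6, 5, 4, 4, 3, 2, 1, 0],
  [5, 3, 1, 1, 0],
  [5, 4, 2, 2, 1, 0, 0],
  [5, 4, 4, 3, 3, 2, 1, 1, 0, 0],
  [6, 6, 5, 4, 4, 2, 1, 0, 0],
  [5, 4, 3, 3, 2, 2, 1, 1, 0, 0],
  [6, 5, 4, 4, 2, 1],
  [6, 5, 3, 3, 0, 0],
  [5, 4, 4, 3, 2, 1, 0],
  [6, 6, 5, 4, 2, 2, 1, 0],
  [6, 6, 5, 4, 4, 3, 3, 2, 1, 1],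
  [6, 5, 4, 3, 2, 2, 1],
  [5, 1, 1],
  [6, 6, 5, 3, 1, 1, 0],
  [6, 6, 4, 3, 1, 0],
  [6, 6, 3, 3, 2, 1],
  [6, 3, 3, 1, 1],
  [6, 6, 4, 4, 2, 2, 0],
  [4, 4, 1, 1],
  [3, 3, 2, 2, 1, 1],
  [6, 4, 4, 2, 0],
  [6, 4, 3, 2, 2],
  [4, 3, 2, 1, 0, 0],
  [6, 6, 5, 5, 4, 3, 1, 1, 0, 0],
  [5, 5, 4, 3, 3, 2, 2, 0, 0],
  [5, 5, 4, 4, 3, 2, 1, 1, 0, 0],
  [6, 6, 5, 5, 4, 4, 2, 2, 1],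
  [6, 6, 5, 5, 3, 3, 2, 1, 1],
  [6, 5, 5, 4, 2, 1, 1, 0, 0],
  [6, 5, 5, 4, 4, 3, 3, 1, 0, 0],
  [5, 5],
  [6, 5, 5, 3, 2, 2, 1, 1, 0, 0],
  [6, 6, 4, 4, 3, 1, 1, 0, 0],
  [4, 3, 3, 2, 2, 1, 0, 0],
  [4, 4, 3, 2, 0, 0],
  [6, 6, 4, 3, 3, 2, 1, 1, 0, 0],
  [1, 0, 0],
  [6, 6, 2, 2, 1],
  [6, 2, 0],
  [6, 4, 3, 3, 1, 1, 0, 0],
  [6, 4, 4, 3, 2, 2, 0, 0],
  [6, 6, 5, 5, 4, 4, 3, 3, 2, 2, 1, 1, 0, 0],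
  [6, 5, 5, 2, 2, 1, 1, 0],
  [5, 5, 4, 3, 2, 2, 1, 1, 0],
  [5, 5, 4, 4, 2, 1, 1],
  [5, 5, 3, 3, 1, 0],
  [6, 6, 5, 5, 3, 2, 1, 0],
  [6, 5, 5, 4, 3, 3, 2, 0],
  [6, 5, 5, 4, 4, 3, 0, 0],
  [6, 6, 5, 5, 4, 1, 1, 0, 0],
  [6, 6, 4, 4, 3, 2, 2, 1, 0],
  [6, 4, 4, 3, 2, 1, 0, 0],
  [6, 6, 4, 3, 3, 0],
  [6, 1, 1],
  [6, 6, 2, 1, 0, 0],
  [4, 4, 3],
  [2, 2, 1, 1, 0],
  [4, 3, 3, 2, 0],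
  [6, 4, 3, 3, 2, 2, 1, 1, 0],
  [6, 6, 5, 4, 4, 3, 3, 2, 2, 1, 1, 0],
  [5, 2, 1, 1, 0],
  [5, 4, 4, 3, 2, 2, 1, 1, 0, 0],
  [6, 5, 3, 3, 2, 1, 0],
  [6, 6, 5, 3, 2, 1],
  [6, 6, 5, 4, 1, 1, 0],
  [6, 5, 4, 4, 2, 2, 0, 0],
  [5, 4, 3, 3, 1],
  [6, 5, 4, 3, 1, 0],
  [6, 5, 5, 4, 4, 2, 2, 0],
  [5, 5, 3, 2, 2, 1, 0],
  [6, 6, 5, 5, 1, 1],
  [6, 6, 5, 5, 4, 4, 3, 2, 1],
  [6, 5, 5, 4, 3, 1],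
  [5, 5, 4, 4, 3, 3, 0, 0],
  [6, 6, 5, 5, 4, 3, 3, 2, 2, 1, 1],
  [5, 5, 4, 2, 1, 0],
  [6, 5, 5, 3, 3, 2, 1, 0, 0],
  [4, 2],
  [6, 6, 4, 4, 3, 3, 2, 2, 0],
  [6, 4, 2, 2, 1, 1],
  [4, 4, 3, 3, 1, 1],
  [6, 4, 4, 3, 3, 2, 0],
  [6, 6, 3, 2, 1, 1, 0, 0],
  [6, 3, 0],
  [6, 6, 4, 0],
  [3, 2, 2],
  [6, 6, 5, 4, 4, 3, 1, 1, 0, 0],
  [5, 4, 3, 2, 0],
  [6, 5, 4, 2, 1, 1, 0],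
  [5, 3, 3, 2, 2, 1, 0, 0],
  [6, 6, 5, 4, 3, 3, 2, 1, 1, 0, 0],
  [5, 4, 4, 1],
  [6, 5, 4, 4, 3, 3, 1],
  [6, 6, 5, 2, 2, 1, 0, 0],
  [6, 5, 3, 2, 2, 1, 1, 0, 0],
  [6, 4, 1, 1, 0],
  [6, 6, 3, 2, 2, 1, 1],
  [4, 2, 2, 1, 0],
  [4, 4, 3, 3, 2, 1, 1, 0],
  [6, 4, 4, 3, 3, 2, 2, 1, 1, 0],
  [3, 1, 1, 0],
  [6, 6, 4, 4, 3, 3, 1],
  [6, 6, 4, 2, 1, 1, 0],
  [6, 3, 2, 1, 0, 0],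
  [6, 4, 4, 3, 3, 2, 2],
  [3],
  [6, 3, 2, 1, 1, 0, 0],
  [6, 4],
  [6, 6, 3, 2, 2, 0],
  [4, 4, 3, 3, 2],
  [6, 6, 4, 2, 0],
  [6, 6, 4, 4, 3, 3, 1, 1, 0, 0],
  [4, 2, 2, 1, 1, 0],
  [6, 5, 5, 4, 3, 3, 1, 0],
  [5, 5, 3, 3, 2, 2, 1, 0, 0],
  [6, 6, 5, 5, 4, 4, 3, 3, 2, 1, 0, 0],
  [5, 5, 4, 4, 1, 0],
  [6, 5, 5, 2, 1, 1],
  [6, 6, 5, 5, 4, 2, 2, 0],
  [6, 5, 5, 4, 4, 3, 2, 2, 1, 1, 0],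
  [6, 6, 5, 5, 3, 1],
  [5, 5, 4, 3, 2],
  [5, 5, 3, 2, 1, 1, 0],
  [5, 5, 4, 4, 3, 3, 2, 2],
  [6, 6, 5, 5, 4, 4, 3, 1],
  [6, 6, 5, 5, 2, 2],
  [5, 5, 4],
  [6, 5, 5, 4, 3, 2, 2, 0],
  [6, 6, 5, 5, 4, 3, 3, 2, 1, 0],
  [6, 5, 5, 4, 4, 2, 0],
  [6, 5, 5, 3, 3, 1, 1, 0, 0],
  [6, 5, 4, 3, 2, 2, 1, 1, 0],
  [6, 6, 5, 4, 2, 2, 1, 1],
  [6, 5, 4, 4, 2, 1, 1, 0, 0],
  [5, 4, 4, 3, 2, 1, 1, 0],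
  [5, 4, 3, 3, 2, 2, 0],
  [6, 6, 5, 3],
  [5],
  [6, 5, 3, 3, 1, 0],
  [6, 6, 5, 4, 4, 3, 3, 2],
  [6, 5, 2, 2, 1, 1, 0, 0],
  [6, 6, 5, 3, 3, 2, 2, 1, 1],
  [6, 5, 4, 4, 3],
  [6, 6, 5, 4, 4, 1, 1, 0, 0],
  [5, 4, 4, 3, 3, 1, 1, 0],
  [5, 4, 2, 0, 0],
  [6, 5, 4, 3, 3, 2],
  [6, 6, 5, 4, 3, 2, 1, 0],
  [5, 3, 2, 2],
  [6, 4, 4, 2, 2, 0],
  [6, 6, 4, 4, 1, 1, 0],
  [3, 3, 1, 1, 0],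
  [6, 6, 3, 3, 2, 2, 1, 1, 0, 0],
  [4, 4, 2, 0, 0],
  [4, 3, 2, 2, 0, 0],
  [6, 4, 3, 1, 0, 0],
  [6, 3, 3, 2, 1, 0, 0],
  [6, 6, 4, 3, 2, 1],
  [6, 5, 0, 0],
  [6, 6, 5, 4, 4, 2, 1, 1],
  [5, 3],
  [5, 4, 4, 3, 3, 2, 0],
  [6, 6, 5, 3, 3, 1],
  [6, 5, 4, 3, 3, 2, 2, 0, 0],
  [6, 6, 5, 4, 3, 2, 2, 1, 1, 0],
  [6, 5, 4, 4, 3, 2, 1, 1, 0, 0],
  [5, 4, 2, 2, 1, 1, 0],
  [5, 5, 4, 3, 3, 0, 0],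
  [6, 6, 5, 5, 4, 4],
  [5, 5, 2, 1],
  [6, 6, 5, 5, 4, 3, 2, 1, 1],
  [6, 5, 5, 3, 0],
  [5, 5, 4, 4, 3, 2, 2, 1, 0, 0],
  [6, 5, 5, 4, 2, 2, 1, 1, 0],
  [6, 6, 5, 5, 3, 3, 2, 2, 0, 0],
  [6, 5, 5, 4, 4, 3, 3, 2],
  [6, 6, 0, 0],
  [4, 4, 3, 2, 2, 1, 1],
  [6, 2, 2, 0],
  [6, 6, 4, 3, 3, 2, 2, 0, 0],
  [6, 6, 4, 4, 3, 2, 1, 1],
  [4, 3, 3, 1, 0, 0],
  [6, 4, 4, 3, 1, 0, 0],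
  [6, 4, 3, 3, 2, 1, 0],
  [2, 1, 1, 0],
  [6, 4, 4, 3, 3, 1, 0],
  [6, 6, 4, 4, 3, 3, 2, 1, 1, 0, 0],
  [6, 6, 4, 2, 2, 1],
  [3, 2, 1, 0, 0],
  [6, 4, 2, 1, 1],
  [4, 1, 1, 0],
  [6, 3, 2, 2, 1, 1, 0],
  [6, 6, 3, 1, 1, 0],
  [4, 4, 3, 3, 2, 2, 1, 1, 0],
  [6, 6, 3, 2, 1, 0, 0],
  [3, 2, 2, 1, 1, 0, 0],
  [6, 6, 4, 1, 1],
  [6, 4, 4, 3, 3, 2, 1, 1, 0],
  [4, 4, 3, 3, 1, 0, 0],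
  [6, 3, 1, 1, 0],
  [6, 6, 4, 4, 3, 3, 2, 2, 1, 1, 0],
  [4, 2, 1, 1, 0, 0],
  [6, 4, 2, 2, 1, 0],
  [5, 4, 4, 1, 1, 0, 0],
  [6, 6, 5, 4, 3, 3, 2],
  [6, 5, 3, 2, 2],
  [5, 4, 3, 2, 1, 0, 0],
  [6, 6, 5, 4, 4, 3],
  [6, 5, 4, 4, 3, 3, 1, 1],
  [6, 6, 5, 2, 2, 1, 1, 0, 0],
  [6, 5, 4, 2, 0],
  [5, 3, 3, 2, 2, 1, 1],
  [4, 4, 3, 2, 1],
  [6, 4, 4, 3, 2, 2, 1, 0, 0],
  [6, 4, 3, 3, 0],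
  [6, 6, 4, 3, 3, 2, 0, 0],
  [6, 2, 1, 0],
  [6, 6, 4, 4, 3],
  [6, 6, 2, 2, 1, 1, 0],
  [1, 1, 0],
  [4, 3, 3, 2, 2, 1, 1, 0],
  [6, 6, 5, 4, 3, 3, 2, 1, 0],
  [5, 3, 3, 2, 2, 0],
  [5, 4, 4, 0],
  [6, 6, 5, 4, 4, 3, 1, 0],
  [6, 6, 5, 2, 2],
  [6, 5, 4, 2, 1, 0, 0],
  [6, 5, 3, 2, 2, 1, 0],
  [5, 4, 3, 2, 1, 1, 0, 0],
  [6, 5, 4, 4, 3, 3, 0],
  [6, 3, 3, 2, 2],
  [4, 4, 2, 2, 1],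
  [6, 4, 3, 2, 1, 1, 0, 0],
  [4, 3, 1, 1],
  [6, 4, 4],
  [6, 6, 4, 3, 2, 2, 1],
  [6, 6, 3, 3, 0],
  [6, 6, 4, 4, 2, 1, 0, 0],
  [3, 3, 2, 1, 1, 0, 0],
  [6, 5, 4, 4, 3, 2, 2],
  [6, 5, 4, 3, 3, 1, 1, 0],
  [5, 3, 2, 1, 1, 0],
  [6, 6, 5, 4, 4, 2, 2, 1, 0, 0],
  [5, 4, 4, 3, 3, 2, 2, 0],
  [5, 4],
  [6, 5, 2, 0, 0],
  [6, 6, 5, 4, 3, 1, 1, 0, 0],
  [6, 6, 5, 3, 3, 2, 1, 1, 0],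
  [6, 6, 5, 5, 3, 3, 1, 1, 0],
  [6, 6, 5, 5, 4, 4, 2],
  [6, 5, 5, 4, 4, 3, 3, 2, 2],
  [6, 5, 5, 4],
  [5, 5, 2, 2, 0],
  [6, 6, 5, 5, 4, 3, 2, 2],
  [5, 5, 4, 4, 3, 1, 0, 0],
  [6, 5, 5, 3, 2, 1, 1, 0, 0],
  [5, 5, 4, 3, 3, 2, 1, 0, 0],
  [6, 5, 5],
  [5, 5, 4, 4, 2, 2, 1, 0],
  [6, 5, 5, 4, 3, 3, 2, 2, 0, 0],
  [5, 5, 3, 3, 2, 1, 1, 0],
  [6, 5, 5, 4, 4, 3, 2, 1, 1],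
  [5, 5, 4, 3, 1, 1, 0],
  [6, 6, 5, 5, 4, 4, 3, 3, 1, 0, 0],
  [6, 6, 5, 5, 3, 2, 2, 1, 1],
  [6, 6, 5, 5, 4, 2, 1, 1, 0],
  [3, 3, 2, 2, 1, 0],
  [6, 4, 4, 2, 1, 1],
  [6, 4, 3, 2, 2, 1, 1, 0, 0],
  [6, 6, 4, 3, 0, 0],
  [6, 6, 4, 4, 2, 2, 1, 1, 0],
  [4, 3, 2],
  [6, 3, 3, 1, 0],
  [4, 4, 1],
  [6, 6, 3, 3, 2],
  [5, 3, 3, 2, 1, 0, 0],
  [5, 4, 4, 2, 2],
  [5, 4, 3, 1, 0, 0],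
  [6, 6, 5, 4, 3, 3, 1, 0],
  [6, 6, 5, 2, 1, 1, 0],
  [6, 5, 4, 4, 3, 3, 2, 2, 1, 1, 0, 0],
  [6, 5, 4, 1, 1, 0],
  [6, 5, 3, 2, 1],
  [6, 6, 5, 4, 4, 3, 2, 2, 1, 1, 0, 0],
  [6, 6, 5, 5, 4, 3, 3, 2, 0],
  [6, 6, 5, 5, 4, 4, 3],
  [6, 5, 5, 4, 3, 2, 2, 1, 1],
  [6, 5, 5, 3, 3, 1, 0, 0],
  [5, 5, 4, 1, 1, 0, 0],
  [6, 5, 5, 4, 4, 2, 1, 1, 0, 0],
  [5, 5, 4, 4, 3, 3, 2, 2, 1, 1, 0],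
  [6, 6, 5, 5, 2, 2, 1, 1, 0],
  [5, 5, 3, 2, 1],
  [6, 6, 3, 3, 1, 0],
  [3, 3, 2, 0],
  [6, 3, 3, 2, 2, 1],
  [4, 4, 2, 2, 1, 1, 0, 0],
  [6, 6, 4, 3, 2, 2, 1, 1],
  [6, 4, 3, 2, 0],
  [4, 3, 0],
  [6, 6, 4, 4, 2, 1, 1, 0, 0],
  [6, 4, 4, 1],
  [5, 4, 4, 3, 2],
  [6, 5, 3, 3, 1, 1, 0, 0],
  [5, 4, 3, 3, 2, 2, 1, 0, 0],
  [6, 5, 4, 3, 2, 2, 0, 0],
  [5, 1, 0],
  [6, 5, 4, 4, 2],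
  [6, 6, 5, 4, 4, 3, 3, 2, 1, 0],
  [6, 6, 5, 3, 1],
  [6, 6, 5, 4, 2, 2],
  [6, 4, 3, 1, 1, 0, 0],
  [6, 6, 3, 3, 2, 2, 0, 0],
  [6, 4, 4, 2, 2, 1],
  [6, 3, 3, 2, 1, 1],
  [3, 3],
  [6, 6, 4, 3, 2, 1, 1, 0, 0],
  [4, 3, 2, 2, 1, 0, 0],
  [6, 6, 4, 4, 0, 0],
  [4, 4, 2, 1, 0],
  [3, 2, 0, 0],
  [6, 3, 2, 2, 1, 0],
  [4, 1],
  [4, 4, 3, 3, 2, 2, 1, 0, 0],
  [6, 6, 4, 2, 2, 0, 0],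
  [6, 6, 3, 1],
  [6, 4, 2, 1, 0, 0],
  [6, 4, 4, 3, 3],
  [6, 6, 4, 4, 3, 3, 2, 1, 0],
  [6, 6, 5, 0],
  [5, 3, 3, 1],
  [6, 5, 4, 4, 3, 3, 2],
  [5, 4, 3, 2, 2, 1, 1, 0],
  [6, 6, 5, 4, 4, 3, 2, 1, 1, 0, 0],
  [6, 5, 4, 2, 2, 1, 1, 0],
  [6, 6, 5, 4, 3, 3, 2, 2, 0, 0],
  [5, 4, 4, 2, 1, 1, 0],
  [6, 5, 3],
  [6, 6, 5, 5, 4, 2, 2, 1, 1, 0, 0],
  [5, 5, 4, 3, 2, 1, 1],
  [6, 5, 5, 4, 4, 3, 2, 2, 1, 0],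
  [5, 5, 3, 3, 2, 2, 0, 0],
  [6, 5, 5, 2, 1],
  [6, 6, 5, 5, 3, 0, 0],
  [6, 5, 5, 4, 3, 3, 0, 0],
  [5, 5, 4, 4, 0],
  [6, 6, 5, 5, 4, 4, 3, 3, 2],
  [4, 3, 3, 1, 1],
  [6, 4, 3, 3, 2, 1, 1, 0, 0],
  [6, 6, 1, 0, 0],
  [2, 0],
  [6, 2, 2, 1, 0],
  [6, 6, 4, 3, 3, 2, 2, 1, 0, 0],
  [4, 4, 3, 2, 2, 0, 0],
  [6, 4, 4, 3, 1, 1, 0],
  [6, 6, 4, 4, 3, 2, 0],
  [6, 4, 3, 2, 2, 1],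
  [4, 3, 2, 1, 1],
  [4, 4, 0, 0],
  [6, 4, 4, 2, 1, 0],
  [6, 6, 4, 4, 2, 2, 1],
  [6, 6, 3, 3, 2, 1, 1],
  [3, 3, 2, 2, 0],
  [6, 6, 4, 3, 1, 1, 0, 0],
  [6, 3, 3, 0],
  [6, 6, 3, 0, 0],
  [6, 4, 2, 0, 0],
  [6, 3, 2, 2],
  [4],
  [6, 6, 4, 4, 3, 3, 2],
  [4, 4, 3, 3, 2, 2],
  [6, 4, 4, 3, 3, 1, 1, 0],
  [6, 6, 4, 2, 2, 1, 1],
  [3, 2, 1, 1, 0, 0],
  [5, 5, 4, 2, 2, 0],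
  [6, 6, 5, 5, 2, 1, 1],
  [6, 6, 5, 5, 4, 3, 3, 1],
  [5, 5, 4, 4, 3, 3, 2, 1],
  [6, 5, 5, 4, 4, 1],
  [6, 6, 5, 5, 4, 4, 3, 2, 2, 1, 1, 0],
  [6, 5, 5, 3, 3, 2, 2, 1, 0, 0],
  [5, 5, 3, 1, 0, 0],
  [6, 5, 5, 4, 3, 2],
  [6, 6, 4, 3, 2],
  [4, 4, 2, 1, 1, 0],
  [4, 3, 2, 2, 1, 1],
  [6, 3, 3, 2],
  [3, 3, 1, 0, 0],
  [6, 6, 4, 4, 1, 0],
  [6, 6, 3, 3, 2, 2, 1, 0, 0],
  [6, 4, 4, 2, 2, 1, 1, 0, 0],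
  [6, 4, 3, 0, 0],
  [5, 5, 4, 4, 3, 2, 1, 0, 0],
  [6, 6, 5, 5, 3, 3, 2, 1],
  [6, 5, 5, 4, 4, 3, 3, 0, 0],
  [6, 5, 5, 3, 2, 2, 1, 0, 0],
  [6, 6, 5, 5, 4, 4, 2, 2, 0, 0],
  [6, 5, 5, 4, 2, 1, 0],
  [5, 5, 1, 1, 0],
  [6, 6, 5, 5, 4, 3, 1, 0, 0],
  [5, 5, 4, 3, 3, 2, 2, 1, 1],
  [6, 4, 3, 3, 2, 2, 0],
  [6, 4, 4, 3, 2, 1, 1, 0, 0],
  [6, 6, 2, 1, 1, 0],
  [4, 3, 3, 2, 1, 0, 0],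
  [4, 4, 3, 1],
  [6, 6, 4, 4, 3, 2, 2, 1, 1, 0, 0],
  [6, 6, 4, 3, 3, 1],
  [2, 2, 0, 0],
  [6, 0, 0],
  [6, 6, 5, 4, 3, 2, 1, 1, 0],
  [5, 4, 4, 3, 3, 0, 0],
  [6, 6, 5, 3, 3, 2, 2, 0, 0],
  [6, 5, 4, 4, 3, 1, 0],
  [6, 5, 2, 2, 0, 0],
  [5, 3, 2, 2, 1, 0],
  [6, 5, 4, 3, 3, 2, 1],
  [6, 6, 5, 4, 4],
  [5, 4, 2, 1, 0, 0],
  [5, 4, 3, 3, 2, 1, 0, 0],
  [6, 5, 4, 4, 0, 0],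
  [6, 5, 4, 3, 2, 1, 1, 0, 0],
  [5, 2, 2, 0, 0],
  [6, 6, 5, 4, 4, 3, 3, 0, 0],
  [6, 6, 5, 4, 2, 1, 0],
  [6, 5, 3, 3, 2, 2, 0, 0],
  [6, 6, 5, 3, 2, 2, 1],
  [5, 4, 4, 3, 1, 0, 0],
  [6, 6, 5, 5, 4],
  [6, 5, 5, 4, 4, 3, 1],
  [6, 5, 5, 2, 2],
  [6, 5, 5, 4, 3, 3, 2, 1],
  [6, 6, 5, 5, 4, 4, 3, 3, 2, 2],
  [5, 5, 3, 3, 1, 1],
  [5, 5, 4, 3, 2, 2, 0],
  [5, 5, 4, 4, 2, 0, 0],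
  [6, 6, 5, 5, 3, 2, 1, 1],
  [6, 6, 4, 4, 2],
  [4, 3, 1, 0],
  [6, 4, 3, 2, 1, 0, 0],
  [6, 6, 4, 3, 2, 2],
  [3, 3, 2, 1, 0],
  [6, 4, 4, 1, 1, 0],
  [6, 3, 3, 2, 2, 1, 1, 0, 0],
  [4, 4, 2, 2],
  [6, 6, 3, 3, 1, 1, 0, 0],
  [6, 6, 5, 4, 3, 0],
  [6, 6, 5, 3, 3, 2],
  [6, 6, 5, 4, 4, 2, 2, 1, 1, 0],
  [5, 4, 1, 0],
  [6, 5, 4, 3, 3, 0],
  [6, 5, 2, 1],
  [6, 5, 4, 4, 3, 2, 2, 1, 0],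
  [5, 4, 4, 3, 3, 2, 2, 1, 0, 0],
  [5, 3, 2, 0],
  [6, 5, 5, 4, 3, 2, 1, 0, 0],
  [5, 5, 4, 2, 2, 1],
  [5, 5, 3, 1, 1, 0],
  [6, 5, 5, 4, 4, 1, 1, 0, 0],
  [6, 6, 5, 5, 4, 4, 3, 2, 2, 0],
  [5, 5, 4, 4, 3, 3, 2, 1, 1, 0, 0],
  [6, 5, 5, 3, 3, 2, 2, 1, 1],
  [6, 6, 5, 5, 2, 0],
  [6, 6, 5, 5, 4, 3, 3, 1, 1],
  [6, 5, 3, 3, 2, 0],
  [6, 5, 4, 3, 0],
  [5, 4, 4, 3, 2, 2, 1],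
  [6, 6, 5, 4, 1, 0],
  [6, 5, 4, 4, 2, 2, 1, 1, 0, 0],
  [5, 4, 3, 3, 0, 0],
  [5, 2, 1],
  [6, 6, 5, 3, 2, 0, 0],
  [6, 6, 5, 4, 4, 3, 3, 2, 2, 1],
  [5, 5, 4, 3, 3, 2, 1, 1, 0, 0],
  [6, 5, 5, 4, 1, 0],
  [6, 6, 5, 5, 3, 3, 0, 0],
  [6, 5, 5, 3, 2, 0],
  [6, 6, 5, 5, 4, 3, 2, 2, 1, 0, 0],
  [5, 5, 2, 2, 1],
  [6, 6, 5, 5, 4, 4, 2, 1, 0],
  [5, 5, 4, 4, 3, 1, 1, 0],
  [6, 5, 5, 4, 4, 3, 3, 2, 2, 1],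
  [5, 5, 4, 2, 0],
  [6, 5, 5, 4, 3, 0],
  [6, 6, 5, 5, 1],
  [5, 5, 4, 4, 3, 3, 1, 1, 0],
  [6, 6, 5, 5, 4, 3, 3, 2, 2, 1, 0],
  [6, 5, 5, 3, 3, 2, 0],
  [5, 5, 3, 2, 2, 0, 0],
  [6, 5, 5, 4, 4, 2, 2, 1, 1, 0, 0],
  [6, 6, 5, 5, 4, 4, 3, 2, 0],
  [6, 6, 5, 5, 4, 3, 2],
  [6, 5, 5, 4, 2, 2, 0, 0],
  [6, 6, 5, 5, 4, 4, 1, 0, 0],
  [6, 5, 5, 4, 4, 3, 3, 2, 1],
  [5, 5, 2, 1, 1, 0],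
  [5, 5, 4, 4, 3, 2, 2, 1, 1, 0],
  [6, 6, 5, 5, 3, 3, 2, 2, 1, 0, 0],
  [5, 5, 4, 3, 3, 1],
  [6, 5, 5, 3, 1, 0, 0],
  [6, 5, 5, 4, 3, 3, 2, 2, 1, 1],
  [6, 5, 5, 1, 1],
  [5, 5, 4, 4, 2, 2, 0, 0],
  [6, 5, 5, 4, 4, 3, 2, 1],
  [5, 5, 4, 3, 1],
  [6, 6, 5, 5, 4, 4, 3, 3, 0],
  [6, 6, 5, 5, 4, 2, 1, 0, 0],
  [6, 6, 5, 5, 3, 2, 2, 1],
  [5, 5, 3, 3, 2, 1],
  [6, 6, 5, 4, 3, 2, 2, 0],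
  [6, 6, 5, 4, 4, 2, 0, 0],
  [6, 5, 4, 3, 3, 2, 2, 1, 0],
  [6, 5, 1],
  [5, 4, 2, 2, 0, 0],
  [5, 4, 4, 3, 3, 2, 1, 0],
  [6, 5, 4, 4, 3, 2],
  [6, 6, 5, 3, 3, 1, 1, 0],
  [5, 3, 1, 0, 0],
  [6, 6, 5, 4, 4, 2, 2],
  [6, 6, 5, 3, 3, 2, 1, 0, 0],
  [6, 5, 4, 4, 3, 2, 2, 1, 1],
  [6, 5, 4, 3, 3, 1],
  [6, 6, 5, 4, 3, 1],
  [5, 4, 1, 1, 0],
  [6, 5, 2, 1, 1, 0],
  [5, 3, 2, 1, 0],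
  [5, 4, 4, 3, 3, 2, 2, 1, 1, 0, 0],
  [5, 4, 4, 2],
  [6, 6, 5, 4, 4, 3, 2, 0],
  [5, 3, 3, 1, 1, 0],
  [6, 6, 5, 1, 0],
  [6, 5, 3, 1],
  [6, 5, 4, 2, 2, 0],
  [6, 5, 4, 4, 3, 3, 2, 1],
  [6, 6, 5, 4, 3, 3, 2, 2, 1],
  [5, 4, 3, 2, 2, 0, 0],
  [6, 4, 2, 2],
  [6, 3, 1, 0, 0],
  [6, 6, 4, 1, 0, 0],
  [4, 4, 3, 3, 0],
  [6, 6, 4, 4, 3, 3, 2, 2, 1],
  [6, 4, 4, 3, 3, 2, 1, 0],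
  [4, 2, 1, 0, 0],
  [3, 2, 2, 1],
  [6, 6, 3, 2, 0],
  [6, 5, 5, 4, 4, 3, 1, 1, 0],
  [5, 5, 4, 3, 2, 2, 1, 0],
  [6, 6, 5, 5, 3, 2, 0],
  [5, 5, 3, 3, 0],
  [5, 5, 4, 4, 2, 1],
  [6, 5, 5, 4, 3, 3, 2, 1, 1, 0],
  [6, 6, 5, 5, 4, 1, 0, 0],
  [6, 5, 5, 2, 2, 1, 0],
  [6, 6, 5, 5, 4, 4, 3, 3, 2, 2, 1, 0],
  [6, 6, 5, 4, 4, 1, 0, 0],
  [6, 5, 4, 4, 3, 1, 1, 0, 0],
  [6, 6, 5, 4, 3, 2, 0, 0],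
  [6, 5, 2, 2, 1],
  [5, 4, 2, 1, 1, 0],
  [6, 5, 4, 3, 3, 2, 1, 1, 0, 0],
  [6, 6, 5, 3, 3, 2, 2, 1, 0, 0],
  [5, 3, 2, 2, 1, 1],
  [5, 4, 4, 3, 3, 1, 0],
  [6, 5, 5, 3, 3, 2, 1, 1],
  [5, 5, 4, 2, 1, 1],
  [5, 5, 3, 2, 2, 1, 1, 0, 0],
  [6, 6, 5, 5, 4, 4, 3, 2, 1, 1],
  [6, 6, 5, 5, 4, 3, 3, 2, 2],
  [6, 5, 5, 4, 4, 2, 2, 1],
  [5, 5, 4, 4, 3, 3, 1, 0],
  [6, 6, 5, 5, 0],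
  [6, 5, 5, 4, 3, 1, 1, 0, 0],
  [2, 1],
  [6, 4, 4, 3],
  [6, 4, 3, 3, 2],
  [6, 6, 4, 3, 3, 2, 2, 1, 1, 0, 0],
  [6, 6, 4, 4, 3, 2, 1, 0],
  [4, 3, 3, 0],
  [6, 6, 1, 1, 0, 0],
  [4, 4, 3, 2, 2, 1, 0],
  [6, 2, 2, 1, 1, 0],
  [5, 5, 4, 4, 3, 3, 2, 0],
  [6, 5, 5, 3, 3, 2, 2, 0, 0],
  [6, 6, 5, 5, 2, 1],
  [6, 6, 5, 5, 4, 4, 3, 2, 2, 1, 0],
  [6, 6, 5, 5, 4, 3, 3, 0],
  [5, 5, 3],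
  [6, 5, 5, 4, 3, 2, 1, 1, 0],
  [5, 5, 4, 2, 2, 1, 1],
  [6, 5, 5, 4, 4, 0, 0],
  [6, 5, 5, 3, 1, 1, 0],
  [6, 5, 5, 4, 4, 3, 3, 2, 1, 1],
  [6, 6, 5, 5, 3, 3, 2, 2, 1, 1, 0, 0],
  [6, 6, 5, 5, 4, 3, 2, 1, 0],
  [6, 6, 5, 5, 4, 4, 1, 1, 0],
  [5, 5, 2],
  [5, 5, 4, 3, 3, 1, 1],
  [6, 5, 5, 4, 2, 2, 1, 0, 0],
  [5, 5, 4, 4, 3, 2, 2],
  [5, 5, 4, 4, 3, 0],
  [6, 6, 5, 5, 4, 4, 2, 1, 1, 0],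
  [6, 5, 5, 4, 4, 3, 3, 2, 2, 1, 1],
  [6, 5, 5, 3, 2, 1],
  [5, 5, 4, 3, 3, 2, 0],
  [6, 6, 5, 5, 4, 3, 2, 2, 1, 1, 0, 0],
  [6, 6, 5, 5, 3, 3, 1, 0],
  [6, 5, 5, 4, 1, 1],
  [5, 5, 2, 2, 1, 1, 0],
  [6, 6, 5, 4, 3, 3, 1, 1],
  [6, 6, 5, 2, 0, 0],
  [6, 5, 3, 2, 1, 1],
  [5, 4, 3, 1, 1, 0, 0],
  [5, 4, 4, 2, 2, 1, 0, 0],
  [5, 3, 3, 2, 1, 1, 0, 0],
  [6, 5, 4, 0],
  [6, 5, 4, 4, 3, 3, 2, 2, 0, 0],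
  [6, 6, 5, 4, 4, 3, 2, 2, 0, 0],
  [4, 4, 3, 3, 2, 1, 0, 0],
  [6, 6, 4, 4, 3, 3, 0, 0],
  [6, 6, 4, 2, 1, 0],
  [6, 3, 2, 0],
  [6, 6, 3, 2, 2, 1, 0],
  [4, 2, 2, 0],
  [3, 1, 0],
  [6, 4, 1, 0],
  [6, 4, 4, 3, 3, 2, 2, 1, 0],
  [6, 5, 5, 4, 4, 3, 2, 2, 0, 0],
  [6, 6, 5, 5, 3, 1, 1, 0, 0],
  [6, 5, 5, 4, 3, 3, 1, 1, 0, 0],
  [5, 5, 4, 3, 2, 1, 0],
  [5, 5, 4, 4, 1, 1],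
  [6, 6, 5, 5, 4, 4, 3, 3, 2, 1, 1, 0],
  [6, 5, 5, 2, 0],
  [5, 5, 3, 3, 2, 2, 1, 1],
  [6, 6, 5, 5, 4, 2, 2, 1, 0],
  [6, 6, 5, 2, 1, 0, 0],
  [6, 6, 5, 4, 4, 3, 2, 2, 1],
  [6, 6, 5, 4, 3, 3, 0, 0],
  [5, 4, 3],
  [5, 3, 3, 2, 0, 0],
  [6, 5, 3, 2],
  [6, 5, 4, 4, 3, 3, 2, 2, 1, 0],
  [5, 4, 4, 2, 2, 1, 1, 0],
  [6, 5, 4, 1],
  [5, 2, 2, 1, 1],
  [6, 5, 4, 3, 2, 1, 0, 0],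
  [6, 6, 5, 3, 2, 2],
  [5, 4, 3, 3, 2],
  [6, 5, 3, 3, 2, 2, 1, 1],
  [5, 4, 4, 3],
  [6, 6, 5, 4, 2, 0, 0],
  [6, 6, 5, 4, 4, 3, 3, 1, 1],
  [6, 5, 4, 4, 1, 1, 0, 0],
  [6, 6, 4, 3, 3, 1, 1],
  [4, 3, 3, 2, 1, 1, 0],
  [2, 2, 1, 0],
  [6, 1, 0],
  [4, 4, 3, 1, 1, 0, 0],
  [6, 6, 4, 4, 3, 2, 2, 0, 0],
  [6, 4, 3, 3, 2, 2, 1],
  [6, 4, 4, 3, 2, 0],
  [6, 6, 2],
  [6, 6, 2, 2],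
  [6, 2, 1, 1, 0],
  [0, 0],
  [6, 4, 4, 3, 2, 2, 1, 1, 0, 0],
  [6, 4, 3, 3, 1, 0, 0],
  [6, 6, 4, 4, 3, 1, 0, 0],
  [4, 3, 3, 2, 2, 0, 0],
  [4, 4, 3, 2, 1, 1, 0],
  [6, 6, 4, 3, 3, 2, 1, 0],
  [5, 5, 1],
  [6, 6, 5, 5, 3, 3, 2],
  [6, 6, 5, 5, 4, 3, 0, 0],
  [6, 5, 5, 4, 4, 3, 3, 1, 1, 0, 0],
  [6, 5, 5, 4, 2, 0, 0],
  [6, 5, 5, 3, 2, 2, 0],
  [5, 5, 4, 3, 3, 2, 2, 1, 0, 0],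
  [6, 6, 5, 5, 4, 4, 2, 2, 1, 1, 0],
  [5, 5, 4, 4, 3, 2, 0],
  [5, 2],
  [6, 5, 4, 4, 2, 2, 1, 0],
  [5, 4, 4, 3, 2, 2],
  [6, 5, 4, 3, 1, 1, 0, 0],
  [6, 5, 3, 3, 2, 1, 1, 0],
  [5, 4, 3, 3, 1, 1, 0, 0],
  [6, 6, 5, 4, 4, 3, 3, 2, 2, 0, 0],
  [6, 6, 5, 4, 0, 0],
  [6, 6, 5, 3, 2, 1, 1],
  [6, 6, 5, 5, 3, 2, 2, 0, 0],
  [6, 6, 5, 5, 4, 4, 3, 3, 1, 1, 0],
  [5, 5, 3, 3, 2, 0, 0],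
  [6, 6, 5, 5, 4, 2, 0],
  [5, 5, 4, 3, 0],
  [6, 5, 5, 4, 4, 3, 2, 0],
  [6, 5, 5, 1],
  [6, 5, 5, 4, 3, 3, 2, 2, 1],
  [5, 5, 4, 4, 2, 2, 1, 1, 0],
  [6, 5, 5, 4, 4, 2, 1, 0, 0],
  [6, 5, 5, 4, 3, 2, 2, 1, 0, 0],
  [5, 5, 4, 4, 3, 3, 2, 2, 1],
  [5, 5, 3, 2],
  [6, 6, 5, 5, 4, 3, 3, 2, 1, 1],
  [6, 5, 5, 3, 3, 0, 0],
  [6, 6, 5, 5, 2, 2, 1, 0, 0],
  [5, 5, 4, 1, 0],
  [6, 6, 5, 5, 4, 4, 3, 1, 1],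
  [5, 4, 3, 2, 2, 1],
  [6, 6, 5, 1, 1],
  [6, 6, 5, 4, 4, 3, 2, 1, 0, 0],
  [5, 4, 4, 2, 1, 0, 0],
  [5, 3, 3, 0, 0],
  [6, 5, 4, 4, 3, 3, 2, 1, 1],
  [6, 5, 3, 1, 1],
  [6, 6, 5, 4, 3, 3, 2, 2, 1, 1, 0],
  [6, 5, 4, 2, 2, 1, 0, 0],
  [6, 5, 3, 3, 2, 2, 1, 0],
  [6, 5, 4, 4, 1],
  [5, 2, 2, 1],
  [5, 4, 3, 3, 2, 1, 1],
  [6, 5, 4, 3, 2, 0, 0],
  [6, 6, 5, 3, 2, 2, 1, 1, 0],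
  [6, 6, 5, 4, 4, 3, 3, 1, 0],
  [5, 4, 4, 3, 1, 1, 0, 0],
  [6, 6, 5, 4, 2, 1, 1, 0, 0],
  [6, 5, 4, 3, 3, 2, 2, 1, 1],
  [6, 6, 5, 3, 3, 0, 0],
  [6, 6, 5, 4, 3, 2, 2, 1],
  [6, 5, 1, 1, 0, 0],
  [6, 5, 4, 4, 3, 2, 1, 0, 0],
  [5, 3, 1, 1, 0, 0],
  [5, 4, 2, 2, 1],
  [5, 4, 4, 3, 3, 2, 1, 1],
  [6, 6, 5, 4, 4, 2, 1],
  [5, 4, 3, 3, 2, 2, 1, 1],
  [6, 5, 4, 4, 2, 1, 0],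
  [6, 5, 3, 3],
  [5, 4, 4, 3, 2, 1, 0, 0],
  [6, 6, 5, 4, 2, 2, 1, 0, 0],
  [6, 6, 5, 4, 4, 3, 3, 2, 1, 1, 0],
  [6, 5, 4, 3, 2, 2, 1, 0],
  [5, 1, 1, 0],
  [6, 6, 5, 3, 1, 1, 0, 0],
  [6, 6, 4, 3, 1, 0, 0],
  [6, 6, 3, 3, 2, 1, 0],
  [6, 3, 3, 1, 1, 0],
  [6, 6, 4, 4, 2, 2, 0, 0],
  [4, 4, 1, 1, 0],
  [3, 3, 2, 2, 1, 1, 0],
  [6, 4, 4, 2, 0, 0],
  [6, 4, 3, 2, 2, 0],
  [4, 3, 2, 1],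
  [6, 6, 5, 5, 4, 3, 1, 1],
  [5, 5, 4, 3, 3, 2, 2],
  [5, 5, 4, 4, 3, 2, 1, 1],
  [6, 6, 5, 5, 4, 4, 2, 2, 1, 0],
  [6, 6, 5, 5, 3, 3, 2, 1, 1, 0],
  [6, 5, 5, 4, 2, 1, 1],
  [6, 5, 5, 4, 4, 3, 3, 1],
  [5, 5, 0],
  [6, 5, 5, 3, 2, 2, 1, 1],
  [6, 6, 4, 4, 3, 1, 1],
  [4, 3, 3, 2, 2, 1],
  [4, 4, 3, 2],
  [6, 6, 4, 3, 3, 2, 1, 1],
  [1],
  [6, 6, 2, 2, 1, 0],
  [6, 2, 0, 0],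
  [6, 4, 3, 3, 1, 1],
  [6, 4, 4, 3, 2, 2],
  [6, 6, 5, 5, 4, 4, 3, 3, 2, 2, 1, 1],
  [6, 5, 5, 2, 2, 1, 1, 0, 0],
  [5, 5, 4, 3, 2, 2, 1, 1, 0, 0],
  [5, 5, 4, 4, 2, 1, 1, 0],
  [5, 5, 3, 3, 1, 0, 0],
  [6, 6, 5, 5, 3, 2, 1, 0, 0],
  [6, 5, 5, 4, 3, 3, 2, 0, 0],
  [6, 5, 5, 4, 4, 3],
  [6, 6, 5, 5, 4, 1, 1],
  [6, 6, 4, 4, 3, 2, 2, 1, 0, 0],
  [6, 4, 4, 3, 2, 1],
  [6, 6, 4, 3, 3, 0, 0],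
  [6, 1, 1, 0],
  [6, 6, 2, 1],
  [4, 4, 3, 0],
  [2, 2, 1, 1, 0, 0],
  [4, 3, 3, 2, 0, 0],
  [6, 4, 3, 3, 2, 2, 1, 1, 0, 0],
  [6, 6, 5, 4, 4, 3, 3, 2, 2, 1, 1, 0, 0],
  [5, 2, 1, 1, 0, 0],
  [5, 4, 4, 3, 2, 2, 1, 1],
  [6, 5, 3, 3, 2, 1, 0, 0],
  [6, 6, 5, 3, 2, 1, 0],
  [6, 6, 5, 4, 1, 1, 0, 0],
  [6, 5, 4, 4, 2, 2],
  [5, 4, 3, 3, 1, 0],
  [6, 5, 4, 3, 1, 0, 0],
  [6, 5, 5, 4, 4, 2, 2, 0, 0],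
  [5, 5, 3, 2, 2, 1, 0, 0],
  [6, 6, 5, 5, 1, 1, 0],
  [6, 6, 5, 5, 4, 4, 3, 2, 1, 0],
  [6, 5, 5, 4, 3, 1, 0],
  [5, 5, 4, 4, 3, 3],
  [6, 6, 5, 5, 4, 3, 3, 2, 2, 1, 1, 0],
  [5, 5, 4, 2, 1, 0, 0],
  [6, 5, 5, 3, 3, 2, 1],
  [4, 2, 0],
  [6, 6, 4, 4, 3, 3, 2, 2, 0, 0],
  [6, 4, 2, 2, 1, 1, 0],
  [4, 4, 3, 3, 1, 1, 0],
  [6, 4, 4, 3, 3, 2, 0, 0],
  [6, 6, 3, 2, 1, 1],
  [6, 3, 0, 0],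
  [6, 6, 4, 0, 0],
  [3, 2, 2, 0],
  [6, 6, 5, 4, 4, 3, 1, 1],
  [5, 4, 3, 2, 0, 0],
  [6, 5, 4, 2, 1, 1, 0, 0],
  [5, 3, 3, 2, 2, 1],
  [6, 6, 5, 4, 3, 3, 2, 1, 1],
  [5, 4, 4, 1, 0],
  [6, 5, 4, 4, 3, 3, 1, 0],
  [6, 6, 5, 2, 2, 1],
  [6, 5, 3, 2, 2, 1, 1],
  [6, 4, 1, 1, 0, 0],
  [6, 6, 3, 2, 2, 1, 1, 0],
  [4, 2, 2, 1, 0, 0],
  [4, 4, 3, 3, 2, 1, 1, 0, 0],
  [6, 4, 4, 3, 3, 2, 2, 1, 1, 0, 0],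
  [3, 1, 1, 0, 0],
  [6, 6, 4, 4, 3, 3, 1, 0],
  [6, 6, 4, 2, 1, 1, 0, 0],
  [6, 3, 2, 1],
  [6, 4, 4, 3, 3, 2, 2, 0],
  [3, 0],
  [6, 3, 2, 1, 1],
  [6, 4, 0],
  [6, 6, 3, 2, 2, 0, 0],
  [4, 4, 3, 3, 2, 0],
  [6, 6, 4, 2, 0, 0],
  [6, 6, 4, 4, 3, 3, 1, 1],
  [4, 2, 2, 1, 1, 0, 0],
  [6, 5, 5, 4, 3, 3, 1, 0, 0],
  [5, 5, 3, 3, 2, 2, 1],
  [6, 6, 5, 5, 4, 4, 3, 3, 2, 1],
  [5, 5, 4, 4, 1, 0, 0],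
  [6, 5, 5, 2, 1, 1, 0],
  [6, 6, 5, 5, 4, 2, 2, 0, 0],
  [6, 5, 5, 4, 4, 3, 2, 2, 1, 1, 0, 0],
  [6, 6, 5, 5, 3, 1, 0],
  [5, 5, 4, 3, 2, 0],
  [5, 5, 3, 2, 1, 1, 0, 0],
  [5, 5, 4, 4, 3, 3, 2, 2, 0],
  [6, 6, 5, 5, 4, 4, 3, 1, 0],
  [6, 6, 5, 5, 2, 2, 0],
  [5, 5, 4, 0],
  [6, 5, 5, 4, 3, 2, 2, 0, 0],
  [6, 6, 5, 5, 4, 3, 3, 2, 1, 0, 0],
  [6, 5, 5, 4, 4, 2, 0, 0],
  [6, 5, 5, 3, 3, 1, 1],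
  [6, 5, 4, 3, 2, 2, 1, 1, 0, 0],
  [6, 6, 5, 4, 2, 2, 1, 1, 0],
  [6, 5, 4, 4, 2, 1, 1],
  [5, 4, 4, 3, 2, 1, 1, 0, 0],
  [5, 4, 3, 3, 2, 2, 0, 0],
  [6, 6, 5, 3, 0],
  [5, 0],
  [6, 5, 3, 3, 1, 0, 0],
  [6, 6, 5, 4, 4, 3, 3, 2, 0],
  [6, 5, 2, 2, 1, 1],
  [6, 6, 5, 3, 3, 2, 2, 1, 1, 0],
  [6, 5, 4, 4, 3, 0],
  [6, 6, 5, 4, 4, 1, 1],
  [5, 4, 4, 3, 3, 1, 1, 0, 0],
  [5, 4, 2],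
  [6, 5, 4, 3, 3, 2, 0],
  [6, 6, 5, 4, 3, 2, 1, 0, 0],
  [5, 3, 2, 2, 0],
  [6, 4, 4, 2, 2, 0, 0],
  [6, 6, 4, 4, 1, 1, 0, 0],
  [3, 3, 1, 1, 0, 0],
  [6, 6, 3, 3, 2, 2, 1, 1],
  [4, 4, 2],
  [4, 3, 2, 2],
  [6, 4, 3, 1],
  [6, 3, 3, 2, 1],
  [6, 6, 4, 3, 2, 1, 0],
  [6, 5],
  [6, 6, 5, 4, 4, 2, 1, 1, 0],
  [5, 3, 0],
  [5, 4, 4, 3, 3, 2, 0, 0],
  [6, 6, 5, 3, 3, 1, 0],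
  [6, 5, 4, 3, 3, 2, 2],
  [6, 6, 5, 4, 3, 2, 2, 1, 1, 0, 0],
  [6, 5, 4, 4, 3, 2, 1, 1],
  [5, 4, 2, 2, 1, 1, 0, 0],
  [5, 5, 4, 3, 3],
  [6, 6, 5, 5, 4, 4, 0],
  [5, 5, 2, 1, 0],
  [6, 6, 5, 5, 4, 3, 2, 1, 1, 0],
  [6, 5, 5, 3, 0, 0],
  [5, 5, 4, 4, 3, 2, 2, 1],
  [6, 5, 5, 4, 2, 2, 1, 1, 0, 0],
  [6, 6, 5, 5, 3, 3, 2, 2],
  [6, 5, 5, 4, 4, 3, 3, 2, 0],
  [6, 6],
  [4, 4, 3, 2, 2, 1, 1, 0],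
  [6, 2, 2, 0, 0],
  [6, 6, 4, 3, 3, 2, 2],
  [6, 6, 4, 4, 3, 2, 1, 1, 0],
  [4, 3, 3, 1],
  [6, 4, 4, 3, 1],
  [6, 4, 3, 3, 2, 1, 0, 0],
  [2, 1, 1, 0, 0],
  [6, 4, 4, 3, 3, 1, 0, 0],
  [6, 6, 4, 4, 3, 3, 2, 1, 1],
  [6, 6, 4, 2, 2, 1, 0],
  [3, 2, 1],
  [6, 4, 2, 1, 1, 0],
  [4, 1, 1, 0, 0],
  [6, 3, 2, 2, 1, 1, 0, 0],
  [6, 6, 3, 1, 1, 0, 0],
  [4, 4, 3, 3, 2, 2, 1, 1, 0, 0],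
  [6, 6, 3, 2, 1],
  [3, 2, 2, 1, 1],
  [6, 6, 4, 1, 1, 0],
  [6, 4, 4, 3, 3, 2, 1, 1, 0, 0],
  [4, 4, 3, 3, 1],
  [6, 3, 1, 1, 0, 0],
  [6, 6, 4, 4, 3, 3, 2, 2, 1, 1, 0, 0],
  [4, 2, 1, 1],
  [6, 4, 2, 2, 1, 0, 0],
  [5, 4, 4, 1, 1],
  [6, 6, 5, 4, 3, 3, 2, 0],
  [6, 5, 3, 2, 2, 0],
  [5, 4, 3, 2, 1],
  [6, 6, 5, 4, 4, 3, 0],
  [6, 5, 4, 4, 3, 3, 1, 1, 0],
  [6, 6, 5, 2, 2, 1, 1],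
  [6, 5, 4, 2, 0, 0],
  [5, 3, 3, 2, 2, 1, 1, 0],
  [4, 4, 3, 2, 1, 0],
  [6, 4, 4, 3, 2, 2, 1],
  [6, 4, 3, 3, 0, 0],
  [6, 6, 4, 3, 3, 2],
  [6, 2, 1, 0, 0],
  [6, 6, 4, 4, 3, 0],
  [6, 6, 2, 2, 1, 1, 0, 0],
  [1, 1, 0, 0],
  [4, 3, 3, 2, 2, 1, 1, 0, 0],
  [6, 6, 5, 4, 3, 3, 2, 1, 0, 0],
  [5, 3, 3, 2, 2, 0, 0],
  [5, 4, 4, 0, 0],
  [6, 6, 5, 4, 4, 3, 1, 0, 0],
  [6, 6, 5, 2, 2, 0],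
  [6, 5, 4, 2, 1],
  [6, 5, 3, 2, 2, 1, 0, 0],
  [5, 4, 3, 2, 1, 1],
  [6, 5, 4, 4, 3, 3, 0, 0],
  [6, 3, 3, 2, 2, 0],
  [4, 4, 2, 2, 1, 0],
  [6, 4, 3, 2, 1, 1],
  [4, 3, 1, 1, 0],
  [6, 4, 4, 0],
  [6, 6, 4, 3, 2, 2, 1, 0],
  [6, 6, 3, 3, 0, 0],
  [6, 6, 4, 4, 2, 1],
  [3, 3, 2, 1, 1],
  [6, 5, 4, 4, 3, 2, 2, 0],
  [6, 5, 4, 3, 3, 1, 1, 0, 0],
  [5, 3, 2, 1, 1, 0, 0],
  [6, 6, 5, 4, 4, 2, 2, 1],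
  [5, 4, 4, 3, 3, 2, 2, 0, 0],
  [5, 4, 0],
  [6, 5, 2],
  [6, 6, 5, 4, 3, 1, 1],
  [6, 6, 5, 3, 3, 2, 1, 1, 0, 0],
  [6, 6, 5, 5, 3, 3, 1, 1, 0, 0],
  [6, 6, 5, 5, 4, 4, 2, 0],
  [6, 5, 5, 4, 4, 3, 3, 2, 2, 0],
  [6, 5, 5, 4, 0],
  [5, 5, 2, 2, 0, 0],
  [6, 6, 5, 5, 4, 3, 2, 2, 0],
  [5, 5, 4, 4, 3, 1],
  [6, 5, 5, 3, 2, 1, 1],
  [5, 5, 4, 3, 3, 2, 1],
  [6, 5, 5, 0],
  [5, 5, 4, 4, 2, 2, 1, 0, 0],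
  [6, 5, 5, 4, 3, 3, 2, 2],
  [5, 5, 3, 3, 2, 1, 1, 0, 0],
  [6, 5, 5, 4, 4, 3, 2, 1, 1, 0],
  [5, 5, 4, 3, 1, 1, 0, 0],
  [6, 6, 5, 5, 4, 4, 3, 3, 1],
  [6, 6, 5, 5, 3, 2, 2, 1, 1, 0],
  [6, 6, 5, 5, 4, 2, 1, 1, 0, 0],
  [3, 3, 2, 2, 1, 0, 0],
  [6, 4, 4, 2, 1, 1, 0],
  [6, 4, 3, 2, 2, 1, 1],
  [6, 6, 4, 3],
  [6, 6, 4, 4, 2, 2, 1, 1, 0, 0],
  [4, 3, 2, 0],
  [6, 3, 3, 1, 0, 0],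
  [4, 4, 1, 0],
  [6, 6, 3, 3, 2, 0],
  [5, 3, 3, 2, 1],
  [5, 4, 4, 2, 2, 0],
  [5, 4, 3, 1],
  [6, 6, 5, 4, 3, 3, 1, 0, 0],
  [6, 6, 5, 2, 1, 1, 0, 0],
  [6, 5, 4, 4, 3, 3, 2, 2, 1, 1],
  [6, 5, 4, 1, 1, 0, 0],
  [6, 5, 3, 2, 1, 0],
  [6, 6, 5, 4, 4, 3, 2, 2, 1, 1],
  [6, 6, 5, 5, 4, 3, 3, 2, 0, 0],
  [6, 6, 5, 5, 4, 4, 3, 0],
  [6, 5, 5, 4, 3, 2, 2, 1, 1, 0],
  [6, 5, 5, 3, 3, 1],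
  [5, 5, 4, 1, 1],
  [6, 5, 5, 4, 4, 2, 1, 1],
  [5, 5, 4, 4, 3, 3, 2, 2, 1, 1, 0, 0],
  [6, 6, 5, 5, 2, 2, 1, 1, 0, 0],
  [5, 5, 3, 2, 1, 0],
  [6, 6, 3, 3, 1, 0, 0],
  [3, 3, 2, 0, 0],
  [6, 3, 3, 2, 2, 1, 0],
  [4, 4, 2, 2, 1, 1],
  [6, 6, 4, 3, 2, 2, 1, 1, 0],
  [6, 4, 3, 2, 0, 0],
  [4, 3, 0, 0],
  [6, 6, 4, 4, 2, 1, 1],
  [6, 4, 4, 1, 0],
  [5, 4, 4, 3, 2, 0],
  [6, 5, 3, 3, 1, 1],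
  [5, 4, 3, 3, 2, 2, 1],
  [6, 5, 4, 3, 2, 2],
  [5, 1, 0, 0],
  [6, 5, 4, 4, 2, 0],
  [6, 6, 5, 4, 4, 3, 3, 2, 1, 0, 0],
  [6, 6, 5, 3, 1, 0],
  [6, 6, 5, 4, 2, 2, 0],
  [6, 4, 3, 1, 1],
  [6, 6, 3, 3, 2, 2],
  [6, 4, 4, 2, 2, 1, 0],
  [6, 3, 3, 2, 1, 1, 0],
  [3, 3, 0],
  [6, 6, 4, 3, 2, 1, 1],
  [4, 3, 2, 2, 1],
  [6, 6, 4, 4],
  [4, 4, 2, 1, 0, 0],
  [3, 2],
  [6, 3, 2, 2, 1, 0, 0],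
  [4, 1, 0],
  [4, 4, 3, 3, 2, 2, 1],
  [6, 6, 4, 2, 2],
  [6, 6, 3, 1, 0],
  [6, 4, 2, 1],
  [6, 4, 4, 3, 3, 0],
  [6, 6, 4, 4, 3, 3, 2, 1, 0, 0],
  [6, 6, 5, 0, 0],
  [5, 3, 3, 1, 0],
  [6, 5, 4, 4, 3, 3, 2, 0],
  [5, 4, 3, 2, 2, 1, 1, 0, 0],
  [6, 6, 5, 4, 4, 3, 2, 1, 1],
  [6, 5, 4, 2, 2, 1, 1, 0, 0],
  [6, 6, 5, 4, 3, 3, 2, 2],
  [5, 4, 4, 2, 1, 1, 0, 0],
  [6, 5, 3, 0],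
  [6, 6, 5, 5, 4, 2, 2, 1, 1],
  [5, 5, 4, 3, 2, 1, 1, 0],
  [6, 5, 5, 4, 4, 3, 2, 2, 1, 0, 0],
  [5, 5, 3, 3, 2, 2],
  [6, 5, 5, 2, 1, 0],
  [6, 6, 5, 5, 3],
  [6, 5, 5, 4, 3, 3],
  [5, 5, 4, 4, 0, 0],
  [6, 6, 5, 5, 4, 4, 3, 3, 2, 0],
  [4, 3, 3, 1, 1, 0],
  [6, 4, 3, 3, 2, 1, 1],
  [6, 6, 1],
  [2, 0, 0],
  [6, 2, 2, 1, 0, 0],
  [6, 6, 4, 3, 3, 2, 2, 1],
  [4, 4, 3, 2, 2],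
  [6, 4, 4, 3, 1, 1, 0, 0],
  [6, 6, 4, 4, 3, 2, 0, 0],
  [6, 4, 3, 2, 2, 1, 0],
  [4, 3, 2, 1, 1, 0],
  [4, 4],
  [6, 4, 4, 2, 1, 0, 0],
  [6, 6, 4, 4, 2, 2, 1, 0],
  [6, 6, 3, 3, 2, 1, 1, 0],
  [3, 3, 2, 2, 0, 0],
  [6, 6, 4, 3, 1, 1],
  [6, 3, 3, 0, 0],
  [6, 6, 3],
  [6, 4, 2],
  [6, 3, 2, 2, 0],
  [4, 0],
  [6, 6, 4, 4, 3, 3, 2, 0],
  [4, 4, 3, 3, 2, 2, 0],
  [6, 4, 4, 3, 3, 1, 1, 0, 0],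
  [6, 6, 4, 2, 2, 1, 1, 0],
  [3, 2, 1, 1],
  [5, 5, 4, 2, 2, 0, 0],
  [6, 6, 5, 5, 2, 1, 1, 0],
  [6, 6, 5, 5, 4, 3, 3, 1, 0],
  [5, 5, 4, 4, 3, 3, 2, 1, 0],
  [6, 5, 5, 4, 4, 1, 0],
  [6, 6, 5, 5, 4, 4, 3, 2, 2, 1, 1, 0, 0],
  [6, 5, 5, 3, 3, 2, 2, 1],
  [5, 5, 3, 1],
  [6, 5, 5, 4, 3, 2, 0],
  [6, 6, 4, 3, 2, 0],
  [4, 4, 2, 1, 1, 0, 0],
  [4, 3, 2, 2, 1, 1, 0],
  [6, 3, 3, 2, 0],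
  [3, 3, 1],
  [6, 6, 4, 4, 1, 0, 0],
  [6, 6, 3, 3, 2, 2, 1],
  [6, 4, 4, 2, 2, 1, 1],
  [6, 4, 3],
  [5, 5, 4, 4, 3, 2, 1],
  [6, 6, 5, 5, 3, 3, 2, 1, 0],
  [6, 5, 5, 4, 4, 3, 3],
  [6, 5, 5, 3, 2, 2, 1],
  [6, 6, 5, 5, 4, 4, 2, 2],
  [6, 5, 5, 4, 2, 1, 0, 0],
  [5, 5, 1, 1, 0, 0],
  [6, 6, 5, 5, 4, 3, 1],
  [5, 5, 4, 3, 3, 2, 2, 1, 1, 0],
  [6, 4, 3, 3, 2, 2, 0, 0],
  [6, 4, 4, 3, 2, 1, 1],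
  [6, 6, 2, 1, 1, 0, 0],
  [4, 3, 3, 2, 1],
  [4, 4, 3, 1, 0],
  [6, 6, 4, 4, 3, 2, 2, 1, 1],
  [6, 6, 4, 3, 3, 1, 0],
  [2, 2],
  [6],
  [6, 6, 5, 4, 3, 2, 1, 1, 0, 0],
  [5, 4, 4, 3, 3],
  [6, 6, 5, 3, 3, 2, 2],
  [6, 5, 4, 4, 3, 1, 0, 0],
  [6, 5, 2, 2],
  [5, 3, 2, 2, 1, 0, 0],
  [6, 5, 4, 3, 3, 2, 1, 0],
  [6, 6, 5, 4, 4, 0],
  [5, 4, 2, 1],
  [5, 4, 3, 3, 2, 1],
  [6, 5, 4, 4],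
  [6, 5, 4, 3, 2, 1, 1],
  [5, 2, 2],
  [6, 6, 5, 4, 4, 3, 3],
  [6, 6, 5, 4, 2, 1, 0, 0],
  [6, 5, 3, 3, 2, 2],
  [6, 6, 5, 3, 2, 2, 1, 0],
  [5, 4, 4, 3, 1],
  [6, 6, 5, 5, 4, 0],
  [6, 5, 5, 4, 4, 3, 1, 0],
  [6, 5, 5, 2, 2, 0],
  [6, 5, 5, 4, 3, 3, 2, 1, 0],
  [6, 6, 5, 5, 4, 4, 3, 3, 2, 2, 0],
  [5, 5, 3, 3, 1, 1, 0],
  [5, 5, 4, 3, 2, 2, 0, 0],
  [5, 5, 4, 4, 2],
  [6, 6, 5, 5, 3, 2, 1, 1, 0],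
  [6, 6, 4, 4, 2, 0],
  [4, 3, 1, 0, 0],
  [6, 4, 3, 2, 1],
  [6, 6, 4, 3, 2, 2, 0],
  [3, 3, 2, 1, 0, 0],
  [6, 4, 4, 1, 1, 0, 0],
  [6, 3, 3, 2, 2, 1, 1],
  [4, 4, 2, 2, 0],
  [6, 6, 3, 3, 1, 1],
  [6, 6, 5, 4, 3, 0, 0],
  [6, 6, 5, 3, 3, 2, 0],
  [6, 6, 5, 4, 4, 2, 2, 1, 1, 0, 0],
  [5, 4, 1, 0, 0],
  [6, 5, 4, 3, 3, 0, 0],
  [6, 5, 2, 1, 0],
  [6, 5, 4, 4, 3, 2, 2, 1, 0, 0],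
  [5, 4, 4, 3, 3, 2, 2, 1],
  [5, 3, 2, 0, 0],
  [6, 5, 5, 4, 3, 2, 1],
  [5, 5, 4, 2, 2, 1, 0],
  [5, 5, 3, 1, 1, 0, 0],
  [6, 5, 5, 4, 4, 1, 1],
  [6, 6, 5, 5, 4, 4, 3, 2, 2, 0, 0],
  [5, 5, 4, 4, 3, 3, 2, 1, 1],
  [6, 5, 5, 3, 3, 2, 2, 1, 1, 0],
  [6, 6, 5, 5, 2, 0, 0],
  [6, 6, 5, 5, 4, 3, 3, 1, 1, 0],
  [6, 5, 3, 3, 2, 0, 0],
  [6, 5, 4, 3, 0, 0],
  [5, 4, 4, 3, 2, 2, 1, 0],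
  [6, 6, 5, 4, 1, 0, 0],
  [6, 5, 4, 4, 2, 2, 1, 1],
  [5, 4, 3, 3],
  [5, 2, 1, 0],
  [6, 6, 5, 3, 2],
  [6, 6, 5, 4, 4, 3, 3, 2, 2, 1, 0],
  [5, 5, 4, 3, 3, 2, 1, 1],
  [6, 5, 5, 4, 1, 0, 0],
  [6, 6, 5, 5, 3, 3],
  [6, 5, 5, 3, 2, 0, 0],
  [6, 6, 5, 5, 4, 3, 2, 2, 1],
  [5, 5, 2, 2, 1, 0],
  [6, 6, 5, 5, 4, 4, 2, 1, 0, 0],
  [5, 5, 4, 4, 3, 1, 1, 0, 0],
  [6, 5, 5, 4, 4, 3, 3, 2, 2, 1, 0],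
  [5, 5, 4, 2, 0, 0],
  [6, 5, 5, 4, 3, 0, 0],
  [6, 6, 5, 5, 1, 0],
  [5, 5, 4, 4, 3, 3, 1, 1, 0, 0],
  [6, 6, 5, 5, 4, 3, 3, 2, 2, 1, 0, 0],
  [6, 5, 5, 3, 3, 2, 0, 0],
  [5, 5, 3, 2, 2],
  [6, 5, 5, 4, 4, 2, 2, 1, 1],
  [6, 6, 5, 5, 4, 4, 3, 2, 0, 0],
  [6, 6, 5, 5, 4, 3, 2, 0],
  [6, 5, 5, 4, 2, 2],
  [6, 6, 5, 5, 4, 4, 1],
  [6, 5, 5, 4, 4, 3, 3, 2, 1, 0],
  [5, 5, 2, 1, 1, 0, 0],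
  [5, 5, 4, 4, 3, 2, 2, 1, 1, 0, 0],
  [6, 6, 5, 5, 3, 3, 2, 2, 1],
  [5, 5, 4, 3, 3, 1, 0],
  [6, 5, 5, 3, 1],
  [6, 5, 5, 4, 3, 3, 2, 2, 1, 1, 0],
  [6, 5, 5, 1, 1, 0],
  [5, 5, 4, 4, 2, 2],
  [6, 5, 5, 4, 4, 3, 2, 1, 0],
  [5, 5, 4, 3, 1, 0],
  [6, 6, 5, 5, 4, 4, 3, 3, 0, 0],
  [6, 6, 5, 5, 4, 2, 1],
  [6, 6, 5, 5, 3, 2, 2, 1, 0],
  [5, 5, 3, 3, 2, 1, 0],
  [6, 6, 5, 4, 3, 2, 2, 0, 0],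
  [6, 6, 5, 4, 4, 2],
  [6, 5, 4, 3, 3, 2, 2, 1, 0, 0],
  [6, 5, 1, 0],
  [5, 4, 2, 2],
  [5, 4, 4, 3, 3, 2, 1, 0, 0],
  [6, 5, 4, 4, 3, 2, 0],
  [6, 6, 5, 3, 3, 1, 1, 0, 0],
  [5, 3, 1]]

/-- The certificate at 3. -/
def threeCert : CfsgLib.Schur.PrimeCert.Cert where
  p := 3
  n := 7
  rules := [
    ([0, 0, 0], []),
    ([0, 1], [1, 0]),
    ([1, 1, 1], []),
    ([0, 2], [2, 0]),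
    ([1, 2], [2, 1]),
    ([2, 2, 2], []),
    ([0, 3], [3, 0]),
    ([1, 3], [3, 1]),
    ([2, 3], [3, 2, 1, 0]),
    ([3, 3, 3], []),
    ([0, 4], [4, 0]),
    ([1, 4], [4, 1]),
    ([2, 4], [4, 2]),
    ([3, 4], [4, 3, 1, 1]),
    ([4, 4, 4], []),
    ([0, 5], [5, 0]),
    ([1, 5], [5, 1]),
    ([2, 5], [5, 2]),
    ([3, 5], [5, 3, 2, 2, 1, 1, 0]),
    ([4, 5], [5, 4]),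
    ([5, 5, 5], []),
    ([0, 6], [6, 0]),
    ([1, 6], [6, 1]),
    ([2, 6], [6, 2, 1, 1]),
    ([3, 6], [6, 3]),
    ([4, 6], [6, 4, 1, 0, 0]),
    ([5, 6], [6, 5, 4, 4]),
    ([6, 6, 6], []),
    ([7, 0], [0, 7]),
    ([7, 1], [1, 7]),
    ([7, 2], [2, 2, 7]),
    ([7, 3], [3, 3, 1, 0, 7]),
    ([7, 4], [4, 4, 7]),
    ([7, 5], [5, 4, 4, 7]),
    ([7, 6], [6, 6, 7]),
    ([8, 0], [0, 8]),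
    ([8, 1], [1, 1, 8]),
    ([8, 2], [4, 2, 2, 8]),
    ([8, 3], [6, 4, 3, 2, 2, 1, 1, 0, 0, 8]),
    ([8, 4], [4, 2, 8]),
    ([8, 5], [5, 5, 4, 2, 2, 0, 8]),
    ([8, 6], [6, 6, 4, 4, 3, 2, 2, 1, 8]),
    ([9, 0], [0, 9]),
    ([9, 1], [1, 9]),
    ([9, 2], [3, 2, 9]),
    ([9, 3], [3, 9]),
    ([9, 4], [6, 6, 4, 1, 0, 0, 9]),
    ([9, 6], [6, 9]),
    ([10, 0], [0, 10]),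
    ([10, 1], [5, 5, 4, 2, 2, 0, 10]),
    ([10, 4, 3, 3], [5, 5, 2, 1, 0, 10]),
    ([10, 6, 3, 2], [2, 1, 1, 0, 10])
  ]
  eqs := [
    ([2, 3, 3, 3], [(0, 8, true), (3, 6, true), (2, 7, true), (1, 8, true), (4, 1, true), (6, 6, true), (5, 6, true), (4, 7, true), (3, 7, true), (2, 8, true), (0, 9, true), (2, 1, true), (3, 1, true), (1, 2, true), (1, 0, true)], [(1, 9, true)]),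
    ([0, 2, 3], [(0, 3, true), (1, 6, true), (0, 8, true)], [(1, 8, true), (0, 6, true), (1, 3, true), (2, 1, true)]),
    ([3, 4, 4, 4], [(0, 13, true), (3, 11, true), (2, 11, true), (1, 13, true), (3, 2, true), (3, 11, true), (2, 13, true), (0, 14, true), (1, 2, true)], [(1, 14, true)]),
    ([2, 3, 4], [(0, 8, true), (3, 10, true), (2, 11, true), (1, 12, true), (0, 13, true), (3, 4, true), (2, 4, true), (3, 2, true)], [(1, 13, true), (0, 12, true), (1, 8, true), (4, 1, true), (5, 1, true), (3, 2, true)]),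
    ([3, 5, 5, 5], [(0, 18, true), (6, 15, true), (5, 16, true), (4, 16, true), (3, 17, true), (2, 17, true), (1, 18, true), (7, 3, true), (6, 4, true), (5, 4, true), (3, 5, true), (5, 3, true), (4, 4, true), (3, 4, true), (6, 1, true), (4, 2, true), (4, 1, true), (6, 15, true), (5, 15, true), (4, 16, true), (3, 17, true), (2, 18, true), (0, 20, true), (5, 3, true), (4, 4, true), (3, 4, true), (1, 5, true), (3, 1, true), (1, 2, true), (1, 0, true)], [(1, 20, true)]),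
    ([3, 3, 3, 5], [(0, 9, true)], [(2, 18, true), (1, 18, true), (0, 18, true), (6, 6, true), (5, 7, true), (4, 7, true), (3, 8, true), (2, 8, true), (5, 3, true), (4, 4, true), (6, 1, true), (8, 1, true), (7, 1, true), (5, 2, true), (6, 1, true), (5, 1, true), (6, 0, true), (5, 4, true), (3, 5, true), (3, 4, true), (4, 2, true), (4, 6, true), (3, 8, true), (1, 9, true), (4, 3, true), (3, 3, true), (2, 4, true), (5, 3, true), (4, 3, true), (3, 4, true), (1, 5, true), (3, 1, true), (2, 1, true), (4, 1, true), (3, 1, true), (1, 2, true), (1, 0, true)]),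
    ([0, 3, 5], [(0, 6, true), (1, 15, true), (0, 18, true)], [(1, 18, true), (0, 15, true), (1, 6, true), (2, 3, true), (3, 3, true), (4, 1, true), (5, 1, true)]),
    ([1, 3, 5], [(0, 7, true), (1, 16, true), (0, 18, true), (6, 1, true), (4, 2, true)], [(1, 18, true), (0, 16, true), (1, 7, true), (2, 4, true), (3, 4, true), (4, 2, true)]),
    ([2, 3, 5], [(0, 8, true), (3, 15, true), (2, 16, true), (1, 17, true), (0, 18, true), (6, 3, true), (5, 4, true), (4, 4, true), (2, 5, true), (4, 1, true), (2, 2, true)], [(1, 18, true), (0, 17, true), (1, 8, true), (4, 3, true), (3, 4, true), (5, 3, true), (4, 4, true), (2, 5, true), (3, 1, true), (4, 1, true), (2, 2, true)]),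
    ([3, 4, 5], [(0, 13, true), (3, 16, true), (2, 16, true), (1, 18, true), (0, 19, true), (7, 1, true), (5, 2, true), (5, 1, true)], [(1, 19, true), (0, 18, true), (6, 10, true), (5, 11, true), (4, 11, true), (3, 12, true), (2, 12, true), (1, 13, true), (4, 4, true), (3, 4, true), (5, 4, true), (4, 4, true), (5, 2, true)]),
    ([2, 3, 6], [(0, 8, true), (3, 21, true), (2, 22, true), (1, 23, true), (0, 24, true), (3, 2, true)], [(1, 24, true), (0, 23, true), (3, 7, true), (2, 7, true), (1, 8, true), (4, 1, true), (5, 1, true), (3, 2, true)]),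
    ([2, 4, 6], [(0, 12, true), (1, 23, true), (0, 25, true), (4, 3, true), (3, 3, true), (2, 4, true), (5, 1, true), (4, 1, true), (6, 1, true), (5, 1, true), (3, 2, true)], [(1, 25, true), (0, 23, true), (3, 11, true), (2, 11, true), (1, 12, true), (3, 2, true)]),
    ([3, 4, 6], [(0, 13, true), (3, 22, true), (2, 22, true), (1, 24, true), (0, 25, true), (4, 6, true), (3, 6, true), (2, 7, true), (5, 1, true), (4, 1, true), (6, 1, true), (5, 1, true), (3, 2, true)], [(1, 25, true), (0, 24, true), (1, 13, true), (3, 2, true)]),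
    ([5, 6, 6, 6], [(0, 26, true), (3, 25, true), (2, 25, true), (1, 26, true), (3, 14, true), (5, 10, true), (4, 10, true), (3, 11, true), (6, 1, true), (5, 1, true), (6, 0, true), (6, 21, true), (5, 22, true), (4, 22, true), (3, 25, true), (2, 26, true), (0, 27, true), (1, 14, true), (3, 1, true), (2, 1, true), (4, 1, true), (3, 1, true), (1, 2, true), (1, 0, true)], [(1, 27, true)]),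
    ([5, 5, 5, 6], [(0, 20, true)], [(2, 26, true), (1, 26, true), (0, 26, true), (3, 19, true), (2, 19, true), (3, 14, true), (3, 19, true), (1, 20, true), (1, 14, true)]),
    ([2, 5, 6], [(0, 17, true), (1, 23, true), (0, 26, true)], [(1, 26, true), (0, 23, true), (3, 16, true), (2, 16, true), (1, 17, true), (4, 11, true), (3, 11, true), (2, 12, true), (5, 11, true), (4, 11, true), (3, 12, true)]),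
    ([3, 5, 6], [(0, 18, true), (6, 21, true), (5, 22, true), (4, 22, true), (3, 23, true), (2, 23, true), (1, 24, true), (0, 26, true), (7, 4, true), (6, 4, true), (7, 2, true), (7, 2, true)], [(1, 26, true), (0, 24, true), (1, 18, true), (7, 10, true), (6, 11, true), (5, 11, true), (4, 12, true), (3, 12, true), (2, 13, true), (5, 4, true), (4, 4, true), (6, 4, true), (5, 4, true), (6, 2, true), (7, 10, true), (6, 11, true), (5, 12, true), (4, 12, true), (3, 13, true), (6, 4, true), (5, 4, true), (7, 4, true), (6, 4, true), (7, 2, true)]),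
    ([7, 2, 3], [(1, 8, true)], [(0, 30, true), (2, 31, true), (1, 8, true), (0, 8, true), (3, 3, true), (2, 4, true), (4, 1, true), (6, 6, true), (5, 6, true), (4, 7, true), (3, 7, true), (2, 8, true), (1, 8, true), (4, 3, true), (3, 4, true), (5, 1, true), (7, 1, true), (6, 1, true), (4, 2, true), (5, 1, true), (4, 1, true), (5, 0, true), (5, 1, true), (5, 1, false), (3, 4, false), (4, 3, false), (2, 4, false), (3, 3, false), (7, 28, false), (6, 29, false), (4, 30, false), (0, 31, false)]),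
    ([7, 3, 3, 3], [(1, 9, true)], [(0, 31, true), (4, 31, true), (8, 31, true), (3, 6, true), (2, 7, true), (0, 9, true), (1, 6, true), (0, 7, true), (2, 1, true), (4, 6, true), (3, 6, true), (2, 7, true), (1, 7, true), (5, 6, true), (4, 6, true), (3, 7, true), (2, 7, true), (0, 9, true), (3, 1, true), (2, 1, true), (0, 2, true), (0, 0, true)]),
    ([7, 3, 4], [(1, 13, true)], [(0, 31, true), (4, 32, true), (3, 10, true), (2, 11, true), (1, 13, true), (0, 13, true), (3, 7, true), (2, 7, true), (3, 2, true), (5, 10, true), (4, 11, true), (3, 11, true), (2, 13, true), (1, 13, true), (4, 7, true), (3, 7, true), (4, 2, true), (4, 2, true), (4, 2, false), (6, 1, false), (5, 1, false), (7, 29, false), (6, 29, false), (2, 31, false), (0, 32, false)]),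
    ([7, 2, 5], [(1, 17, true)], [(0, 30, true), (2, 33, true), (1, 17, true), (0, 17, true), (2, 12, true), (1, 12, true), (3, 12, true), (2, 12, true), (3, 30, false), (0, 33, false)]),
    ([7, 3, 5], [(1, 18, true)], [(0, 31, true), (4, 33, true), (3, 15, true), (2, 16, true), (1, 18, true), (0, 18, true), (6, 6, true), (5, 7, true), (4, 7, true), (3, 8, true), (2, 8, true), (5, 3, true), (4, 4, true), (6, 1, true), (8, 1, true), (7, 1, true), (5, 2, true), (6, 1, true), (5, 1, true), (6, 0, true), (5, 4, true), (3, 5, true), (3, 4, true), (4, 2, true), (4, 1, true), (6, 10, true), (5, 10, true), (4, 11, true), (3, 12, true), (2, 13, true), (1, 13, true), (4, 7, true), (3, 7, true), (4, 2, true), (4, 4, true), (8, 10, true), (7, 10, true),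 (6, 11, true), (5, 11, true), (4, 12, true), (3, 13, true), (2, 13, true), (5, 7, true), (4, 7, true), (5, 2, true), (5, 4, true), (6, 2, true), (6, 2, false), (8, 1, false), (7, 1, false), (5, 4, false), (6, 3, false), (5, 5, false), (7, 4, false), (8, 3, false), (6, 4, false), (7, 3, false), (5, 4, false), (6, 3, false), (13, 28, false), (12, 29, false), (11, 29, false), (9, 30, false), (7, 30, false), (3, 31, false), (0, 33, false)]),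
    ([7, 4, 5], [(1, 19, true)], [(0, 32, true), (2, 33, true), (1, 19, true), (0, 19, true), (1, 14, true), (1, 14, false), (3, 32, false), (0, 33, false)]),
    ([7, 5, 6], [(1, 26, true)], [(0, 33, true), (3, 34, true), (2, 25, true), (1, 25, true), (0, 26, true), (2, 14, true), (4, 10, true), (3, 10, true), (2, 11, true), (5, 1, true), (4, 1, true), (5, 0, true), (5, 21, true), (4, 22, true), (3, 22, true), (2, 25, true), (1, 26, true), (3, 14, true), (5, 1, true), (4, 1, true), (6, 1, true), (5, 1, true), (3, 2, true), (3, 0, true), (3, 14, false), (3, 14, false), (7, 32, false), (5, 32, false), (2, 33, false), (0, 34, false)]),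
    ([7, 6, 6, 6], [(1, 27, true)], [(0, 34, true), (2, 34, true), (4, 34, true), (0, 27, true), (0, 27, true)]),
    ([8, 2, 3], [(1, 8, true)], [(0, 37, true), (3, 38, true), (2, 23, true), (1, 23, true), (0, 25, true), (4, 3, true), (3, 3, true), (2, 4, true), (5, 1, true), (4, 1, true), (6, 1, true), (5, 1, true), (3, 2, true), (4, 3, true), (3, 3, true), (5, 1, true), (4, 1, true), (6, 1, true), (5, 1, true), (7, 10, true), (6, 10, true), (5, 11, true), (4, 11, true), (3, 12, true), (2, 12, true), (8, 6, true), (7, 6, true), (6, 7, true), (5, 7, true), (4, 8, true), (3, 8, true), (6, 3, true), (5, 4, true), (7, 1, true), (9, 1, true), (8, 1, true), (6, 2, true), (7, 1, true), (6, 1, true), (7, 0, true), (7, 3, true), (6, 4, true), (4,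 5, true), (5, 3, true), (4, 4, true), (6, 1, true), (7, 1, true), (5, 2, true), (5, 0, true), (5, 0, false), (5, 2, false), (7, 1, false), (8, 1, false), (6, 1, false), (7, 1, false), (4, 4, false), (5, 3, false), (6, 3, false), (4, 5, false), (6, 4, false), (7, 3, false), (8, 3, false), (6, 2, false), (5, 4, false), (6, 4, false), (4, 4, false), (5, 4, false), (2, 13, false), (3, 12, false), (4, 12, false), (5, 11, false), (6, 11, false), (7, 10, false), (8, 10, false), (14, 35, false), (12, 36, false), (9, 37, false), (0, 38, false)]),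
    ([8, 3, 4], [(1, 13, true)], [(0, 38, true), (9, 39, true), (8, 10, true), (7, 10, true), (6, 11, true), (5, 11, true), (4, 12, true), (3, 12, true), (2, 13, true), (5, 4, true), (4, 4, true), (6, 4, true), (5, 4, true), (6, 2, true), (8, 3, true), (7, 3, true), (6, 4, true), (4, 5, true), (4, 1, false), (5, 1, false), (4, 2, false), (6, 1, false), (7, 1, false), (5, 1, false), (6, 1, false), (4, 1, false), (5, 1, false), (4, 2, false), (4, 5, false), (6, 4, false), (5, 4, false), (6, 0, false), (3, 8, false), (4, 6, false), (5, 6, false), (2, 12, false), (3, 10, false), (4, 10, false), (3, 2, false), (5, 1, false), (6, 1, false), (4, 1, false), (5, 1, false), (2, 4, false), (3, 3, false), (4, 3, false), (0, 25, false), (1, 23, false),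 (13, 36, false), (11, 36, false), (2, 38, false), (0, 39, false)]),
    ([8, 3, 5], [(1, 18, true)], [(0, 38, true), (9, 40, true), (8, 15, true), (7, 15, true), (6, 16, true), (5, 16, true), (4, 17, true), (3, 17, true), (2, 18, true), (1, 19, true), (8, 3, true), (7, 4, true), (6, 4, true), (4, 5, true), (6, 3, true), (5, 4, true), (4, 4, true), (7, 1, true), (5, 2, true), (5, 1, true), (6, 0, true), (5, 16, true), (4, 17, true), (3, 18, true), (2, 19, true), (9, 3, true), (8, 4, true), (7, 4, true), (5, 5, true), (7, 1, true), (5, 2, true), (5, 10, true), (4, 13, true), (8, 3, true), (7, 4, true), (6, 4, true), (9, 3, true), (8, 4, true), (7, 4, true), (9, 1, false), (8, 1, false), (8, 2, false), (10, 1, false), (9, 1, false), (7, 4, false),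 (8, 3, false), (6, 4, false), (7, 3, false), (6, 2, false), (4, 13, false), (5, 11, false), (6, 11, false), (7, 10, false), (5, 5, false), (7, 4, false), (8, 4, false), (9, 3, false), (6, 4, false), (7, 4, false), (8, 3, false), (5, 4, false), (6, 4, false), (3, 13, false), (4, 12, false), (5, 10, false), (5, 0, false), (5, 2, false), (7, 1, false), (8, 1, false), (6, 1, false), (7, 1, false), (4, 4, false), (5, 3, false), (6, 3, false), (4, 5, false), (6, 4, false), (7, 3, false), (8, 3, false), (6, 1, false), (7, 1, false), (6, 2, false), (8, 1, false), (9, 1, false), (7, 1, false), (5, 4, false), (6, 3, false), (3, 8, false), (4, 8, false), (5, 7, false), (6, 7, false), (3, 14, false), (5, 12, false), (6, 12, false), (7, 11, false), (8,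 11, false), (9, 0, false), (8, 1, false), (9, 1, false), (7, 1, false), (8, 1, false), (6, 3, false), (7, 3, false), (6, 2, false), (8, 1, false), (9, 1, false), (7, 1, false), (8, 1, false), (5, 4, false), (6, 3, false), (7, 3, false), (3, 14, false), (2, 19, false), (3, 19, false), (0, 26, false), (1, 26, false), (2, 25, false), (3, 23, false), (4, 23, false), (5, 21, false), (25, 35, false), (23, 36, false), (21, 36, false), (18, 37, false), (15, 37, false), (6, 38, false), (0, 40, false)]),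
    ([8, 5, 5, 5], [(1, 20, true)], [(0, 40, true), (6, 40, true), (12, 40, true), (5, 15, true), (4, 17, true), (3, 17, true), (2, 19, true), (0, 20, true), (3, 15, true), (2, 17, true), (1, 17, true), (0, 19, true), (4, 10, true), (3, 12, true), (2, 12, true), (5, 3, true), (3, 5, true), (3, 3, true), (5, 15, true), (4, 15, true), (3, 17, true), (2, 19, true), (1, 19, true), (6, 15, true), (5, 15, true), (4, 17, true), (3, 19, true), (2, 19, true), (0, 20, true), (4, 10, true), (3, 10, true), (2, 12, true), (0, 14, true), (2, 3, true), (1, 3, true), (3, 3, true), (2, 3, true), (0, 5, true), (0, 0, true)]),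
    ([8, 5, 6], [(1, 26, true)], [(0, 40, true), (6, 41, true), (5, 21, true), (4, 23, true), (3, 23, true), (2, 25, true), (1, 26, true), (0, 26, true), (3, 19, true), (2, 19, true), (3, 14, true), (7, 3, true), (6, 3, true), (5, 4, true), (8, 1, true), (7, 1, true), (9, 1, true), (8, 1, true), (6, 2, true), (7, 3, true), (6, 3, true), (8, 1, true), (7, 1, true), (9, 1, true), (8, 1, true), (9, 0, true), (8, 22, true), (7, 22, true), (6, 23, true), (5, 23, true), (4, 25, true), (3, 25, true), (2, 26, true), (1, 26, true), (4, 19, true), (3, 19, true), (4, 14, true), (8, 10, true), (7, 10, true), (6, 11, true), (4, 14, true), (6, 1, true), (5, 1, true), (6, 0, true), (6, 3, true), (5, 4, true), (4, 4, true), (7, 1, true), (5, 2, true), (5,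 1, true), (6, 3, true), (5, 4, true), (7, 1, true), (8, 1, true), (6, 2, true), (6, 1, true), (7, 1, true), (8, 10, true), (7, 11, true), (6, 11, true), (5, 12, true), (4, 12, true), (9, 10, true), (8, 11, true), (7, 11, true), (6, 12, true), (5, 12, true), (10, 6, true), (9, 7, true), (8, 7, true), (7, 8, true), (6, 8, true), (9, 3, true), (8, 4, true), (10, 1, true), (12, 1, true), (11, 1, true), (9, 2, true), (10, 1, true), (9, 1, true), (10, 0, true), (9, 4, true), (7, 5, true), (7, 4, true), (7, 4, false), (8, 4, false), (5, 13, false), (6, 5, false), (8, 2, false), (7, 4, false), (8, 4, false), (6, 4, false), (7, 4, false), (4, 13, false), (5, 12, false), (6, 12, false), (7, 11, false), (8, 0, false), (6, 4, false), (7, 3, false), (8,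 3, false), (5, 4, false), (6, 3, false), (7, 3, false), (5, 2, false), (4, 14, false), (6, 13, false), (7, 11, false), (8, 11, false), (9, 10, false), (10, 10, false), (7, 5, false), (9, 4, false), (10, 4, false), (11, 3, false), (3, 19, false), (4, 19, false), (5, 18, false), (6, 17, false), (7, 15, false), (7, 2, false), (9, 1, false), (6, 4, false), (7, 4, false), (8, 3, false), (6, 5, false), (8, 4, false), (9, 4, false), (10, 3, false), (2, 19, false), (3, 19, false), (4, 18, false), (5, 17, false), (6, 17, false), (7, 16, false), (16, 39, false), (14, 39, false), (8, 40, false), (0, 41, false)]),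
    ([9, 2, 3], [(1, 8, true)], [(0, 44, true), (2, 45, true), (1, 8, true), (4, 42, false), (3, 43, false), (1, 44, false), (0, 45, false)]),
    ([9, 2, 4], [(1, 12, true)], [(0, 44, true), (2, 46, true), (1, 23, true), (0, 24, true), (4, 22, true), (3, 22, true), (2, 23, true), (1, 24, true), (4, 2, true), (4, 11, true), (3, 12, true), (2, 13, true), (5, 4, true), (4, 4, true), (5, 2, true), (4, 4, false), (5, 3, false), (6, 3, false), (3, 7, false), (4, 6, false), (5, 6, false), (6, 44, false), (0, 46, false)]),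
    ([9, 3, 4], [(1, 13, true)], [(0, 45, true), (1, 46, true), (0, 24, true), (1, 24, true), (2, 13, true), (4, 2, true), (4, 2, false), (6, 1, false), (7, 1, false), (5, 1, false), (6, 1, false), (3, 7, false), (4, 6, false), (5, 6, false), (8, 43, false), (7, 43, false), (6, 45, false), (0, 46, false)]),
    ([10, 4, 3, 3, 6, 3, 2], [(3, 24, true), (2, 24, true), (1, 25, true), (5, 6, true), (4, 6, true), (3, 7, true), (6, 6, true), (5, 6, true), (4, 7, true), (7, 6, true), (6, 6, true), (5, 7, true), (3, 9, true), (5, 3, true), (4, 3, true), (3, 4, true)], [(0, 50, true), (5, 51, true), (4, 3, true), (3, 4, true), (5, 1, true), (6, 1, true), (4, 2, true), (4, 2, false), (6, 1, false), (3, 4, false), (4, 4, false), (5, 3, false), (1, 17,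 false), (2, 16, false), (3, 16, false), (4, 15, false), (0, 17, false), (1, 16, false), (2, 16, false), (3, 15, false), (4, 50, false), (0, 51, false), (3, 12, true), (2, 13, true), (5, 4, true), (4, 4, true), (6, 7, true), (5, 7, true), (4, 8, true), (7, 1, true), (8, 1, true), (6, 2, true), (6, 6, true), (5, 8, true), (3, 9, true)])
  ]
  gauge := [[(8, 1), (13, 1)], [(13, 2)], [(8, 1), (13, 2), (18, 2)], [], [(26, 2)], [], [], [], [], [], []]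
  picks := [[(0, 1), (2, 1)], [(1, 2)], [(2, 2)], [(1, 1), (6, 1)], [(1, 1), (7, 1)], [(0, 1), (2, 2), (4, 2)], [(0, 2), (2, 1), (3, 2), (6, 2), (10, 1), (11, 2), (12, 2), (13, 2), (14, 2)], [(0, 2), (1, 1), (2, 2), (3, 1), (4, 1), (5, 1), (7, 2), (10, 2), (11, 1), (12, 1), (13, 1), (14, 1)], [], [(0, 2), (18, 2)], [(1, 1), (3, 1), (6, 2), (7, 2), (11, 2)], [(1, 1), (6, 1), (7, 2), (11, 1)], [(1, 2), (3, 2), (6, 1), (9, 2), (11, 1), (15, 2)], [], [(14, 1)], [(1, 1), (3, 2), (6, 1), (7, 1), (8, 1), (9, 2), (15, 1)], [(1, 2), (3, 1), (7, 2), (9, 1), (15, 2)], [(1, 1), (3, 1), (6, 2), (9, 1), (11, 2), (15, 1), (20, 2)], [], [(22, 2)], [(2, 1), (4, 2), (14, 2), (28, 2)], [(0, 1), (4, 1), (5, 1), (6, 2), (7, 2), (10, 1), (12, 1)], [(2, 1), (3,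 2), (4, 1), (5, 1), (6, 1), (7, 2), (10, 1), (11, 2), (12, 1), (13, 2), (14, 2)], [(0, 1), (1, 2), (2, 2), (6, 2), (7, 2), (9, 1), (11, 2), (13, 1), (14, 1), (15, 1), (16, 2)], [(0, 2), (3, 2), (4, 1), (5, 1), (6, 1), (9, 2), (10, 1), (11, 1), (13, 1), (14, 1), (15, 2), (16, 1), (31, 1)], [(0, 2), (1, 2), (2, 1), (3, 1), (6, 2), (8, 1), (11, 2), (12, 1), (13, 2), (14, 2), (15, 1), (16, 1), (20, 2), (31, 1), (33, 1)], [], [(24, 2)]]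

/-- Words for the elements of the certificate at 5. -/
def fiveElts : List (List Nat) := [
  [0, 5, 0, 5, 2, 6, 6, 1, 2, 6, 0, 5, 0, 5, 2, 6, 6, 1, 2, 6, 0, 5, 0, 5, 2, 6, 6, 1, 2, 6, 0, 5, 0, 5, 2, 6, 6, 1, 2, 6, 0, 5, 0, 5, 2, 6, 6, 1, 2, 6, 0, 0, 5, 3, 1, 1, 4, 1, 0, 1, 2, 2, 6, 5, 5, 5, 3, 3, 0, 0, 5, 3, 1, 1, 4, 1, 0, 1, 2, 2, 6, 5, 5, 5, 3, 3, 0, 0, 5, 3, 1, 1, 4, 1, 0, 1, 2, 2, 6, 5, 5, 5, 3, 3, 0, 0, 5, 3, 1, 1, 4, 1, 0, 1, 2, 2, 6, 5, 5, 5, 3, 3, 0, 0, 5, 3, 1, 1, 4, 1, 0, 1, 2, 2, 6, 5, 5, 5, 3, 3, 0, 0, 5, 3, 1, 1, 4, 1, 0, 1, 2, 2, 6, 5, 5, 5, 3, 3, 0, 5, 0, 5, 2, 6, 6, 1, 2, 6, 0, 0, 5, 3, 1, 1, 4, 1, 0, 1, 2, 2, 6, 5, 5, 5, 3, 3, 0, 0, 5, 3, 1, 1, 4, 1, 0, 1, 2, 2, 6, 5, 5, 5, 3, 3, 0, 0, 5, 3, 1, 1, 4, 1, 0, 1, 2, 2, 6, 5,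 5, 5, 3, 3, 0, 5, 0, 5, 2, 6, 6, 1, 2, 6, 0, 5, 0, 5, 2, 6, 6, 1, 2, 6, 0, 0, 5, 3, 1, 1, 4, 1, 0, 1, 2, 2, 6, 5, 5, 5, 3, 3, 0, 0, 5, 3, 1, 1, 4, 1, 0, 1, 2, 2, 6, 5, 5, 5, 3, 3, 0, 0, 5, 3, 1, 1, 4, 1, 0, 1, 2, 2, 6, 5, 5, 5, 3, 3],
  [0, 5, 0, 5, 2, 6, 6, 1, 2, 6, 0, 5, 0, 5, 2, 6, 6, 1, 2, 6, 0, 5, 0, 5, 2, 6, 6, 1, 2, 6, 0, 0, 5, 3, 1, 1, 4, 1, 0, 1, 2, 2, 6, 5, 5, 5, 3, 3, 0, 0, 5, 3, 1, 1, 4, 1, 0, 1, 2, 2, 6, 5, 5, 5, 3, 3, 0, 0, 5, 3, 1, 1, 4, 1, 0, 1, 2, 2, 6, 5, 5, 5, 3, 3, 0, 5, 0, 5, 2, 6, 6, 1, 2, 6, 0, 5, 0, 5, 2, 6, 6, 1, 2, 6, 0, 5, 0, 5, 2, 6, 6, 1, 2, 6, 0, 5, 0, 5, 2, 6, 6, 1, 2, 6, 0, 5, 0, 5, 2, 6, 6, 1, 2, 6, 0, 0, 5, 3, 1, 1, 4, 1, 0, 1, 2, 2, 6, 5, 5, 5, 3, 3, 0, 0, 5, 3, 1, 1, 4, 1, 0, 1, 2, 2, 6, 5, 5, 5, 3, 3,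 0, 0, 5, 3, 1, 1, 4, 1, 0, 1, 2, 2, 6, 5, 5, 5, 3, 3],
  [0, 5, 0, 5, 2, 6, 6, 1, 2, 6, 0, 5, 0, 5, 2, 6, 6, 1, 2, 6, 0, 5, 0, 5, 2, 6, 6, 1, 2, 6, 0, 5, 0, 5, 2, 6, 6, 1, 2, 6, 0, 5, 0, 5, 2, 6, 6, 1, 2, 6, 0, 5, 0, 5, 2, 6, 6, 1, 2, 6, 0, 5, 0, 5, 2, 6, 6, 1, 2, 6, 0, 0, 5, 3, 1, 1, 4, 1, 0, 1, 2, 2, 6, 5, 5, 5, 3, 3, 0, 0, 5, 3, 1, 1, 4, 1, 0, 1, 2, 2, 6, 5, 5, 5, 3, 3, 0, 0, 5, 3, 1, 1, 4, 1, 0, 1, 2, 2, 6, 5, 5, 5, 3, 3, 0, 5, 0, 5, 2, 6, 6, 1, 2, 6, 0, 0, 5, 3, 1, 1, 4, 1, 0, 1, 2, 2, 6, 5, 5, 5, 3, 3, 0, 0, 5, 3, 1, 1, 4, 1, 0, 1, 2, 2, 6, 5, 5, 5, 3, 3, 0, 0, 5, 3, 1, 1, 4, 1, 0, 1, 2, 2, 6, 5, 5, 5, 3, 3],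
  [0, 5, 0, 5, 2, 6, 6, 1, 2, 6]]

/-- The elements of the Sylow subgroup, in increasing order of images. -/
def fiveWords : List (List Nat) := [
  [2, 2, 2, 2, 0, 0, 0, 0],
  [2, 2, 2, 2, 1, 1, 1, 1, 0],
  [0],
  [2, 2, 2, 2, 1, 1, 1, 0],
  [0, 0, 0],
  [2, 1, 0, 0, 0, 0],
  [2, 2, 2, 2, 1, 0],
  [1, 0, 0, 0],
  [1, 1, 0, 0, 0],
  [2, 2, 1, 0, 0, 0, 0],
  [2, 2, 1, 1, 1, 0, 0],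
  [2, 2, 1, 1, 1, 1, 0, 0],
  [2, 2, 1, 1, 1, 1],
  [2, 0],
  [2, 2, 2, 2, 1, 1, 0],
  [2, 1, 1, 1, 0, 0, 0, 0],
  [2, 2, 0, 0, 0],
  [2, 2, 2, 1, 1, 1],
  [2, 2, 2, 2, 1, 1, 1, 0, 0],
  [2, 2, 2],
  [],
  [1, 1, 1, 1],
  [2, 2, 1, 1, 1, 1, 0, 0, 0, 0],
  [1, 1, 1, 1, 0, 0],
  [2, 0, 0],
  [2, 2, 2, 1, 1, 0],
  [2, 2, 2, 1, 1, 0, 0, 0, 0],
  [2, 2, 2, 1, 1, 1, 0],
  [2, 2, 2, 1, 0, 0, 0, 0],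
  [2, 2, 0, 0, 0, 0],
  [2, 2, 2, 2, 1, 1, 1, 1, 0, 0],
  [2, 1, 1, 1, 1, 0, 0, 0, 0],
  [2, 2, 2, 2, 1, 1, 1],
  [2, 2, 2, 2, 1, 0, 0, 0, 0],
  [2],
  [2, 2, 2, 2, 1, 1, 0, 0, 0, 0],
  [2, 1, 1, 1, 1],
  [2, 2, 2, 2, 1, 1, 0, 0],
  [2, 2, 2, 2, 1, 1, 1, 1],
  [2, 1, 1, 0, 0, 0],
  [2, 2, 2, 0],
  [2, 2, 2, 1, 0],
  [2, 1, 0, 0],
  [2, 1, 1, 1],
  [2, 2, 2, 1, 1, 1, 0, 0, 0, 0],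
  [2, 1, 1, 1, 1, 0],
  [2, 2, 1, 0, 0, 0],
  [1, 1, 1, 0, 0, 0],
  [2, 2, 1],
  [2, 1, 1, 1, 1, 0, 0],
  [2, 2, 2, 1, 0, 0],
  [2, 2, 2, 0, 0],
  [1, 1, 0],
  [2, 2, 2, 2, 1],
  [1, 1, 1, 1, 0],
  [2, 2, 1, 1, 1, 1, 0],
  [2, 2, 1, 1, 0, 0, 0],
  [2, 2, 2, 2, 1, 1, 1, 1, 0, 0, 0],
  [0, 0],
  [2, 2, 2, 2, 1, 1, 1, 0, 0, 0, 0],
  [2, 2, 2, 2, 0],
  [1, 1],
  [1],
  [2, 1, 1, 1, 0, 0],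
  [2, 0, 0, 0, 0],
  [2, 2, 2, 2, 1, 0, 0],
  [2, 2, 2, 2, 1, 1, 0, 0, 0],
  [2, 2, 1, 1, 1],
  [1, 1, 1, 0],
  [2, 1, 1, 1, 0],
  [2, 2, 1, 1],
  [2, 2, 1, 0, 0],
  [2, 2, 2, 1, 1, 1, 1, 0, 0, 0],
  [2, 2],
  [1, 1, 0, 0],
  [2, 2, 1, 1, 0, 0],
  [2, 1, 1, 0, 0],
  [1, 1, 1, 1, 0, 0, 0],
  [1, 1, 1],
  [2, 2, 2, 1, 1, 0, 0],
  [2, 2, 1, 1, 1, 0],
  [2, 2, 2, 2, 1, 1, 1, 1, 0, 0, 0, 0],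
  [2, 2, 1, 1, 0],
  [2, 1],
  [2, 2, 2, 1],
  [2, 2, 0, 0],
  [2, 2, 2, 1, 1, 1, 1, 0],
  [2, 0, 0, 0],
  [2, 1, 1],
  [1, 1, 1, 0, 0],
  [1, 0, 0, 0, 0],
  [1, 1, 0, 0, 0, 0],
  [2, 1, 1, 1, 1, 0, 0, 0],
  [2, 2, 2, 1, 1, 1, 1, 0, 0],
  [2, 2, 2, 0, 0, 0, 0],
  [2, 1, 1, 0, 0, 0, 0],
  [2, 2, 2, 1, 1, 1, 1, 0, 0, 0, 0],
  [2, 1, 1, 0],
  [2, 1, 0],
  [2, 2, 2, 2, 1, 0, 0, 0],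
  [2, 1, 0, 0, 0],
  [2, 2, 2, 2],
  [2, 2, 2, 1, 0, 0, 0],
  [1, 0, 0],
  [1, 0],
  [2, 2, 2, 1, 1, 1, 0, 0],
  [2, 2, 1, 1, 1, 0, 0, 0, 0],
  [2, 2, 2, 1, 1],
  [2, 2, 1, 1, 0, 0, 0, 0],
  [2, 2, 2, 2, 0, 0],
  [2, 2, 1, 1, 1, 1, 0, 0, 0],
  [2, 2, 2, 2, 1, 1],
  [2, 2, 2, 0, 0, 0],
  [2, 2, 1, 1, 1, 0, 0, 0],
  [2, 2, 2, 2, 0, 0, 0],
  [2, 2, 2, 2, 1, 1, 1, 0, 0, 0],
  [2, 2, 2, 1, 1, 1, 1],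
  [2, 2, 1, 0],
  [1, 1, 1, 0, 0, 0, 0],
  [2, 2, 0],
  [0, 0, 0, 0],
  [2, 2, 2, 1, 1, 0, 0, 0],
  [1, 1, 1, 1, 0, 0, 0, 0],
  [2, 1, 1, 1, 0, 0, 0],
  [2, 2, 2, 1, 1, 1, 0, 0, 0]]

/-- The certificate at 5. -/
def fiveCert : CfsgLib.Schur.PrimeCert.Cert where
  p := 5
  n := 3
  rules := [
    ([0, 0, 0, 0, 0], []),
    ([0, 1], [1, 0]),
    ([1, 1, 1, 1, 1], []),
    ([0, 2], [2, 0]),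
    ([1, 2], [2, 1, 0, 0, 0, 0]),
    ([2, 2, 2, 2, 2], []),
    ([3, 0], [0, 0, 0, 3]),
    ([3, 1], [2, 2, 2, 0, 3]),
    ([3, 2], [1, 1, 1, 1, 0, 0, 3])
  ]
  eqs := [
    ([1, 2, 2, 2, 2, 2], [(0, 4, true), (5, 3, true), (4, 3, true), (3, 3, true), (2, 3, true), (1, 4, true), (3, 0, true), (5, 3, true), (4, 3, true), (3, 3, true), (2, 4, true), (4, 0, true), (5, 3, true), (4, 3, true), (3, 4, true), (5, 0, true), (5, 3, true), (4, 4, true), (0, 5, true), (1, 0, true)], [(1, 5, true)]),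
    ([3, 0, 1], [(1, 1, true)], [(0, 6, true), (3, 7, true), (2, 3, true), (1, 3, true), (0, 3, true), (3, 3, true), (2, 3, true), (1, 3, true), (4, 3, true), (3, 3, true), (2, 3, true), (4, 6, false), (0, 7, false)]),
    ([3, 1, 1, 1, 1, 1], [(1, 2, true)], [(0, 7, true), (4, 7, true), (8, 7, true), (12, 7, true), (16, 7, true), (3, 3, true), (4, 3, true), (0, 5, true), (0, 3, true), (2, 3, true), (1, 3, true), (3, 3, true), (2, 3, true), (4, 3, true), (3, 3, true), (6, 3, true), (5, 3, true), (4, 3, true), (0, 5, true), (2, 3, true), (1, 3, true), (0, 3, true), (3, 3, true), (2, 3, true), (1, 3, true), (5, 3, true), (4, 3, true), (3, 3, true), (2, 3, true), (6, 3, true), (5, 3, true), (4, 3, true), (3, 3, true), (7, 3, true), (6, 3, true),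 (5, 3, true), (4, 3, true), (0, 5, true), (0, 0, true)]),
    ([3, 0, 2], [(1, 3, true)], [(0, 6, true), (3, 8, true), (2, 1, true), (1, 1, true), (0, 1, true), (3, 1, true), (2, 1, true), (1, 1, true), (4, 1, true), (3, 1, true), (2, 1, true), (5, 1, true), (4, 1, true), (3, 1, true), (4, 0, true), (4, 0, false), (6, 6, false), (0, 8, false)]),
    ([3, 1, 2], [(1, 4, true)], [(0, 7, true), (4, 8, true), (3, 1, true), (4, 1, true), (5, 1, true), (6, 1, true), (7, 0, false), (7, 0, false), (7, 0, false), (7, 0, false), (6, 1, false), (7, 1, false), (6, 0, false), (5, 1, false), (6, 1, false), (7, 1, false), (5, 0, false), (4, 1, false), (5, 1, false), (6, 1, false), (7, 1, false), (2, 4, false), (3, 4, false), (4, 4, false), (5, 4, false),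 (6, 3, false), (7, 3, false), (8, 3, false), (9, 3, false), (6, 0, false), (5, 1, false), (6, 1, false), (5, 0, false), (4, 1, false), (5, 1, false), (6, 1, false), (4, 0, false), (3, 1, false), (4, 1, false), (5, 1, false), (6, 1, false), (1, 4, false), (2, 4, false), (3, 4, false), (4, 4, false), (5, 3, false), (6, 3, false), (7, 3, false), (5, 0, false), (4, 1, false), (5, 1, false), (4, 0, false), (3, 1, false), (4, 1, false), (5, 1, false), (3, 0, false), (2, 1, false), (3, 1, false), (4, 1, false), (5, 1, false), (0, 4, false), (1, 4, false), (2, 4, false), (3, 4, false), (4, 3, false), (5, 3, false), (19, 6, false), (16, 6, false), (13, 6, false), (10, 6, false), (6, 7, false), (0, 8, false)]),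
    ([3, 2, 2, 2, 2, 2], [(1, 5, true)], [(0, 8, true), (6, 8, true), (12, 8, true), (18, 8, true), (24, 8, true), (5, 1, true), (4, 1, true), (0, 2, true), (1, 1, true), (0, 1, true), (2, 1, true), (1, 1, true), (3, 1, true), (2, 1, true), (6, 1, true), (5, 1, true), (4, 1, true), (3, 1, true), (7, 1, true), (6, 1, true), (5, 1, true), (4, 1, true), (0, 2, true), (3, 1, true), (2, 1, true), (1, 1, true), (0, 1, true), (4, 1, true), (3, 1, true), (2, 1, true), (1, 1, true), (2, 0, true), (2, 1, true), (3, 1, true), (4, 1, true), (0, 2, true), (0, 1, true), (3, 1, true), (2, 1, true), (1, 1, true), (4, 1, true), (3, 1, true), (2, 1, true), (5, 1, true), (4, 1, true), (3, 1, true), (6, 1, true), (5, 1, true), (4, 1, true), (0, 2, true), (0,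 0, true)])
  ]
  gauge := [[(4, 4)], [], [], []]
  picks := [[(0, 4)], [(1, 2), (3, 3)], [(0, 2), (2, 4), (5, 2)], [(1, 4), (3, 2)], [], [(0, 1), (2, 1), (5, 4)]]

end CfsgLib.McLCover
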